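import Mathlib
set_option linter.all false

/-!
# A group of the order of the Tits group without 2-transitive actions, abstract part

`t` of order 3 normalises a subgroup of order 13 and all nontrivial elements of the group `R = ⟨t, s⟩` of order 27 are
conjugate to `t`. Counting fixed points excludes all degrees.
-/

set_option autoImplicit false

namespace Cfsg.Agent.H87.TitsAbs

open MulAction

/-- the data -/
structure Dat (G : Type*) [Group G] where
  x : G
  t : G
  s : G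
  z : G
  x13 : x ^ 13 = 1
  x1 : x ≠ 1
  txt : t * x * t⁻¹ = x ^ 3
  t1 : t ≠ 1
  t3 : t ^ 3 = 1
  s3 : s ^ 3 = 1
  z3 : z ^ 3 = 1
  zt : z * t = t * z
  zs : z * s = s * z
  ts : t * s = z * (s * t)
  conj : ∀ a < 3, ∀ b < 3, ∀ c < 3, (a ≠ 0 ∨ b ≠ 0 ∨ c ≠ 0) → IsConj (t ^ a * s ^ b * z ^ c) t

namespace Dat

variable {G : Type*} [Group G] (D : Dat G)

/-- the elements of `R` -/
def m (a b c : ℕ) : G := D.t ^ a * D.s ^ b * D.z ^ c

theorem czt (a c : ℕ) : Commute (D.z ^ c) (D.t ^ a) := Commute.pow_pow (show Commute D.z D.t from D.zt) c a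

theorem czs (a c : ℕ) : Commute (D.z ^ c) (D.s ^ a) := Commute.pow_pow (show Commute D.z D.s from D.zs) c a

theorem sts : D.s * D.t * D.s⁻¹ = D.t * D.z ^ 2 := by
  have h1 : D.s * D.t = D.z⁻¹ * (D.t * D.s) := by rw [D.ts]; group
  have h2 : D.z⁻¹ = D.z ^ 2 := by
    rw [inv_eq_iff_mul_eq_one, ← pow_succ']
    exact D.z3
  have e1 := (D.czt 1 2).eq
  rw [pow_one] at e1
  rw [h1, h2, ← mul_assoc, mul_inv_cancel_right, e1]

theorem sts_pow (b : ℕ) : D.s ^ b * D.t * (D.s ^ b)⁻¹ = D.t * D.z ^ (2 * b) := by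
  induction b with
  | zero => simp
  | succ b ih =>
    have e1 := (D.czs 1 (2 * b)).eq
    rw [pow_one] at e1
    calc D.s ^ (b + 1) * D.t * (D.s ^ (b + 1))⁻¹ = D.s * (D.s ^ b * D.t * (D.s ^ b)⁻¹) * D.s⁻¹ := by
          rw [pow_succ']; group
      _ = D.s * D.t * (D.z ^ (2 * b) * D.s⁻¹) := by rw [ih]; group
      _ = D.s * D.t * (D.s⁻¹ * D.z ^ (2 * b)) := by
          rw [show D.z ^ (2 * b) * D.s⁻¹ = D.s⁻¹ * D.z ^ (2 * b) from
            ((show Commute (D.z ^ (2 * b)) D.s from e1).inv_right).eq]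
      _ = (D.s * D.t * D.s⁻¹) * D.z ^ (2 * b) := by group
      _ = D.t * D.z ^ (2 * (b + 1)) := by
          rw [D.sts, mul_assoc, ← pow_add]
          congr 2
          ring

theorem st_pow (a b : ℕ) : D.s ^ b * D.t ^ a = D.t ^ a * D.s ^ b * D.z ^ (2 * b * a) := by
  have h1 : (D.s ^ b * D.t * (D.s ^ b)⁻¹) ^ a = D.t ^ a * D.z ^ (2 * b * a) := by
    rw [D.sts_pow, (show Commute D.t (D.z ^ (2 * b)) from by
      have := (D.czt 1 (2 * b)).symm
      rwa [pow_one] at this).mul_pow, ← pow_mul]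
  rw [conj_pow] at h1
  rw [mul_assoc, ← (D.czs b (2 * b * a)).eq, ← mul_assoc, ← h1]
  group

theorem m_mul (a b c a' b' c' : ℕ) : D.m a b c * D.m a' b' c' = D.m (a + a') (b + b') (2 * b * a' + (c + c')) := by
  have e1 : D.m a b c * D.m a' b' c' = D.t ^ a * D.s ^ b * (D.z ^ c * D.t ^ a') * D.s ^ b' * D.z ^ c' := by
    unfold m; group
  have e2 : D.t ^ a * D.s ^ b * (D.z ^ c * D.t ^ a') * D.s ^ b' * D.z ^ c' =
      D.t ^ a * (D.s ^ b * D.t ^ a') * (D.z ^ c * D.s ^ b') * D.z ^ c' := by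
    rw [(D.czt a' c).eq]; group
  have e3 : D.t ^ a * (D.s ^ b * D.t ^ a') * (D.z ^ c * D.s ^ b') * D.z ^ c' =
      D.t ^ a * D.t ^ a' * D.s ^ b * (D.z ^ (2 * b * a') * D.s ^ b') * D.z ^ c * D.z ^ c' := by
    rw [(D.czs b' c).eq, D.st_pow]; group
  have e4 : D.t ^ a * D.t ^ a' * D.s ^ b * (D.z ^ (2 * b * a') * D.s ^ b') * D.z ^ c * D.z ^ c' =
      D.t ^ (a + a') * D.s ^ (b + b') * D.z ^ (2 * b * a' + (c + c')) := by
    rw [(D.czs b' (2 * b * a')).eq, pow_add, pow_add, pow_add, pow_add]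
    group
  rw [e1, e2, e3, e4]
  rfl

theorem m_mod (a b c : ℕ) : D.m a b c = D.m (a % 3) (b % 3) (c % 3) := by
  have h (g : G) (hg : g ^ 3 = 1) (n : ℕ) : g ^ n = g ^ (n % 3) := by
    conv_lhs => rw [← Nat.div_add_mod n 3, pow_add, pow_mul, hg, one_pow, one_mul]
  unfold m
  rw [h D.t D.t3 a, h D.s D.s3 b, h D.z D.z3 c]

theorem m_isConj {a b c : ℕ} (h : ¬ (3 ∣ a ∧ 3 ∣ b ∧ 3 ∣ c)) : IsConj (D.m a b c) D.t := by
  rw [m_mod]
  refine D.conj _ (Nat.mod_lt _ (by norm_num)) _ (Nat.mod_lt _ (by norm_num)) _ (Nat.mod_lt _ (by norm_num)) ?_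
  omega

theorem m_eq_one {a b c : ℕ} (h : D.m a b c = 1) : 3 ∣ a ∧ 3 ∣ b ∧ 3 ∣ c := by
  by_contra hn
  have h1 := D.m_isConj hn
  rw [h, isConj_one_right] at h1
  exact D.t1 h1

/-- the subgroup of order 27 -/
def R : Subgroup G where
  carrier := {g | ∃ a b c : ℕ, D.m a b c = g}
  one_mem' := ⟨0, 0, 0, by simp [m]⟩
  mul_mem' := by
    rintro _ _ ⟨a, b, c, rfl⟩ ⟨a', b', c', rfl⟩
    exact ⟨_, _, _, (D.m_mul a b c a' b' c').symm⟩
  inv_mem' := by
    rintro _ ⟨a, b, c, rfl⟩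
    refine ⟨2 * a, 2 * b, 2 * a * b + 2 * c, ?_⟩
    apply eq_inv_of_mul_eq_one_left
    rw [D.m_mul, m_mod]
    have e1 : (2 * a + a) % 3 = 0 := by omega
    have e2 : (2 * b + b) % 3 = 0 := by omega
    have e3 : (2 * (2 * b) * a + (2 * a * b + 2 * c + c)) % 3 = 0 := by
      have : 2 * (2 * b) * a + (2 * a * b + 2 * c + c) = 3 * (2 * (a * b) + c) := by ring
      rw [this]
      exact Nat.mul_mod_right _ _
    rw [e1, e2, e3]
    simp [m]

theorem mem_R {g : G} : g ∈ D.R ↔ ∃ a b c : ℕ, D.m a b c = g := Iff.rfl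

theorem m_inj {a b c a' b' c' : ℕ} (h : D.m a b c = D.m a' b' c') : a % 3 = a' % 3 ∧ b % 3 = b' % 3 ∧ c % 3 = c' % 3 := by
  have e1 : D.t ^ (2 * a') * (D.m a' b' c') * D.s ^ (2 * b') * D.z ^ (2 * c') = 1 := by
    have : D.t ^ (2 * a') * (D.m a' b' c') * D.s ^ (2 * b') * D.z ^ (2 * c') =
        (D.t ^ 3) ^ a' * (D.s ^ b' * (D.z ^ c' * D.s ^ (2 * b'))) * D.z ^ (2 * c') := by
      unfold m
      rw [← pow_mul, show 3 * a' = 2 * a' + a' by ring, pow_add]
      group
    rw [this, (D.czs (2 * b') c').eq, ← mul_assoc (D.s ^ b'), ← pow_add, show b' + 2 * b' = 3 * b' by ring, pow_mul, D.t3,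
      D.s3, one_pow, one_pow, one_mul, one_mul, ← pow_add, show c' + 2 * c' = 3 * c' by ring, pow_mul, D.z3, one_pow]
  have e2 : D.t ^ (2 * a') * (D.m a b c) * D.s ^ (2 * b') * D.z ^ (2 * c') = D.m (2 * a' + a) (b + 2 * b') (c + 2 * c') := by
    have : D.t ^ (2 * a') * (D.m a b c) * D.s ^ (2 * b') * D.z ^ (2 * c') =
        D.t ^ (2 * a') * D.t ^ a * (D.s ^ b * (D.z ^ c * D.s ^ (2 * b'))) * D.z ^ (2 * c') := by
      unfold m
      group
    rw [this, (D.czs (2 * b') c).eq, ← pow_add, ← mul_assoc (D.s ^ b), ← pow_add]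
    unfold m
    rw [pow_add D.z c]
    group
  rw [h, e1] at e2
  have := D.m_eq_one e2.symm
  omega

theorem card_R : Nat.card D.R = 27 := by
  let f : Fin 3 × Fin 3 × Fin 3 → D.R := fun p => ⟨D.m p.1 p.2.1 p.2.2, _, _, _, rfl⟩
  have hf : Function.Bijective f := by
    constructor
    · rintro ⟨a, b, c⟩ ⟨a', b', c'⟩ h
      have h1 := D.m_inj (congrArg Subtype.val h)
      simp only [Prod.mk.injEq]
      refine ⟨Fin.ext ?_, Fin.ext ?_, Fin.ext ?_⟩ <;> simp only at h1 <;> omega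
    · rintro ⟨_, a, b, c, rfl⟩
      refine ⟨(⟨a % 3, Nat.mod_lt _ (by norm_num)⟩, ⟨b % 3, Nat.mod_lt _ (by norm_num)⟩, ⟨c % 3, Nat.mod_lt _ (by norm_num)⟩), ?_⟩
      apply Subtype.ext
      exact (D.m_mod a b c).symm
  rw [← Nat.card_congr (Equiv.ofBijective f hf)]
  simp

theorem R_isConj {r : G} (hr : r ∈ D.R) (h1 : r ≠ 1) : IsConj r D.t := by
  obtain ⟨a, b, c, rfl⟩ := hr
  refine D.m_isConj fun h => h1 ?_
  rw [m_mod, Nat.mod_eq_zero_of_dvd h.1, Nat.mod_eq_zero_of_dvd h.2.1, Nat.mod_eq_zero_of_dvd h.2.2]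
  simp [m]

/-! ### fixed points -/

section

variable {Ω : Type*} [Fintype Ω] [MulAction G Ω]

/-- number of fixed points -/
noncomputable def fx (Ω : Type*) [MulAction G Ω] (g : G) : ℕ := Nat.card (fixedBy Ω g)

omit [Fintype Ω] in
theorem fx_conj {g h : G} (hc : IsConj g h) : fx Ω g = fx Ω h := by
  obtain ⟨c, hc⟩ := isConj_iff.1 hc
  unfold fx
  refine Nat.card_congr ⟨fun w => ⟨c • (w : Ω), ?_⟩, fun w => ⟨c⁻¹ • (w : Ω), ?_⟩, fun w => ?_, fun w => ?_⟩
  · have := w.2
    rw [mem_fixedBy] at this ⊢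
    rw [← hc, ← mul_smul, inv_mul_cancel_right, mul_smul, this]
  · have := w.2
    rw [mem_fixedBy] at this ⊢
    have e : g * c⁻¹ = c⁻¹ * h := by rw [← hc]; group
    rw [← mul_smul, e, mul_smul, this]
  · apply Subtype.ext
    exact inv_smul_smul c (w : Ω)
  · apply Subtype.ext
    exact smul_inv_smul c (w : Ω)

theorem burnside : ∃ k, Fintype.card Ω + 26 * fx Ω D.t = 27 * k := by
  classical
  have hfin : Finite D.R := Nat.finite_of_card_ne_zero (by rw [D.card_R]; norm_num)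
  have := Fintype.ofFinite D.R
  have h := MulAction.sum_card_fixedBy_eq_card_orbits_mul_card_group D.R Ω
  rw [← Nat.card_eq_fintype_card (α := D.R), D.card_R] at h
  refine ⟨Fintype.card (Quotient (orbitRel D.R Ω)), ?_⟩
  rw [mul_comm 27, ← h, ← Finset.sum_erase_add _ _ (Finset.mem_univ (1 : D.R))]
  have e1 : Fintype.card (fixedBy Ω (1 : D.R)) = Fintype.card Ω := by
    rw [← Nat.card_eq_fintype_card, fixedBy_one_eq_univ, Nat.card_coe_set_eq, Set.ncard_univ, Nat.card_eq_fintype_card]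
  have e2 : ∀ r ∈ Finset.univ.erase (1 : D.R), Fintype.card (fixedBy Ω r) = fx Ω D.t := by
    intro r hr
    rw [← Nat.card_eq_fintype_card, ← fx_conj (D.R_isConj r.2 (fun h => (Finset.mem_erase.1 hr).1 (Subtype.ext h)))]
    rfl
  rw [Finset.sum_congr rfl e2, e1, Finset.sum_const, Finset.card_erase_of_mem (Finset.mem_univ _), Finset.card_univ,
    ← Nat.card_eq_fintype_card (α := D.R), D.card_R, smul_eq_mul, add_comm]

theorem fx_lt [FaithfulSMul G Ω] : fx Ω D.t < Fintype.card Ω := by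
  have h1 : fx Ω D.t ≤ Fintype.card Ω := by
    unfold fx
    rw [← Nat.card_eq_fintype_card]
    exact Nat.card_le_card_of_injective (fun w : fixedBy Ω D.t => (w : Ω)) Subtype.val_injective
  refine lt_of_le_of_ne h1 fun h => D.t1 ?_
  apply FaithfulSMul.eq_of_smul_eq_smul (α := Ω)
  intro w
  rw [one_smul]
  have h2 : fixedBy Ω D.t = Set.univ := by
    apply Set.eq_of_subset_of_ncard_le (Set.subset_univ _)
    rw [Set.ncard_univ, Nat.card_eq_fintype_card, ← h]
    exact (Nat.card_coe_set_eq _).le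
  have h3 : w ∈ fixedBy Ω D.t := by rw [h2]; trivial
  exact h3

/-- points fixed by `t` and moved by `x`: their `⟨x⟩`-orbits are disjoint and of length 13 -/
theorem mul_card_le : 13 * Nat.card {w : Ω // D.t • w = w ∧ D.x • w ≠ w} ≤ Fintype.card Ω := by
  have key : ∀ (w : Ω) (k : ℕ), D.t • w = w → D.t • (D.x ^ k • w) = D.x ^ (3 * k) • w := by
    intro w k hw
    have e : D.t * D.x ^ k = D.x ^ (3 * k) * D.t := by
      have h1 : (D.t * D.x * D.t⁻¹) ^ k = D.x ^ (3 * k) := by rw [D.txt, pow_mul]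
      rw [conj_pow] at h1
      rw [← h1]
      group
    rw [← mul_smul, e, mul_smul, hw]
  have red : ∀ (w : Ω) (k : ℕ), D.x ^ k • w = w → D.x • w ≠ w → 13 ∣ k := by
    intro w k hk hw
    by_contra hn
    have hc : Nat.Coprime k 13 := ((Nat.Prime.coprime_iff_not_dvd (by norm_num)).2 hn).symm
    apply hw
    obtain ⟨l, -, hl⟩ := Nat.exists_mul_mod_eq_one_of_coprime hc (by norm_num)
    have h1 : D.x = (D.x ^ k) ^ l := by
      rw [← pow_mul, ← Nat.div_add_mod (k * l) 13, pow_add, pow_mul, D.x13, one_pow, one_mul, hl, pow_one]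
    have h2 : ∀ n : ℕ, (D.x ^ k) ^ n • w = w := by
      intro n
      induction n with
      | zero => simp
      | succ n ih => rw [pow_succ, mul_smul, hk, ih]
    rw [h1]
    exact h2 l
  let f : Fin 13 × {w : Ω // D.t • w = w ∧ D.x • w ≠ w} → Ω := fun p => D.x ^ (p.1 : ℕ) • (p.2 : Ω)
  have hf : Function.Injective f := by
    rintro ⟨i, w⟩ ⟨j, v⟩ h
    have h0 : D.x ^ (i : ℕ) • (w : Ω) = D.x ^ (j : ℕ) • (v : Ω) := h
    -- `v = x ^ k w`, `k = i + 12 j`
    have h1 : (v : Ω) = D.x ^ ((i : ℕ) + 12 * (j : ℕ)) • (w : Ω) := by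
      have : D.x ^ (12 * (j : ℕ)) • D.x ^ (i : ℕ) • (w : Ω) = D.x ^ (12 * (j : ℕ)) • D.x ^ (j : ℕ) • (v : Ω) := by
        rw [h0]
      rw [← mul_smul, ← mul_smul, ← pow_add, ← pow_add, show 12 * (j : ℕ) + j = 13 * j by ring, pow_mul, D.x13, one_pow,
        one_smul] at this
      rw [← this]
      congr 2
      ring
    set k := (i : ℕ) + 12 * (j : ℕ) with hk
    have h2 := key w k w.2.1
    rw [← h1, v.2.1, h1] at h2
    -- `x ^ k w = x ^ 3k w`
    have h3 : D.x ^ (2 * k) • (w : Ω) = w := by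
      have : D.x ^ (12 * k) • (D.x ^ k • (w : Ω)) = D.x ^ (12 * k) • (D.x ^ (3 * k) • (w : Ω)) := by rw [← h2]
      rw [← mul_smul, ← mul_smul, ← pow_add, ← pow_add, show 12 * k + k = 13 * k by ring,
        show 12 * k + 3 * k = 13 * k + 2 * k by ring, pow_add, pow_mul, D.x13, one_pow, one_mul, one_smul] at this
      exact this.symm
    have h4 := red w _ h3 w.2.2
    have h5 : 13 ∣ k := by omega
    have h6 : (i : ℕ) = j := by
      have := i.2
      have := j.2
      omega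
    have h7 : (v : Ω) = w := by
      rw [h1]
      obtain ⟨l, hl⟩ := h5
      rw [hl, pow_mul, D.x13, one_pow, one_smul]
    simp only [Prod.mk.injEq]
    exact ⟨Fin.ext h6, Subtype.ext h7.symm⟩
  have h := Nat.card_le_card_of_injective f hf
  rw [Nat.card_prod, Nat.card_eq_fintype_card (α := Fin 13), Fintype.card_fin] at h
  rwa [Nat.card_eq_fintype_card (α := Ω)] at h

/-- two fixed points of `x` -/
theorem not_two (hG : Nat.card G = 2 ^ 11 * 3 ^ 3 * 5 ^ 2 * 13) (h2 : IsMultiplyPretransitive G Ω 2)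
    (h13 : 13 ∣ Fintype.card Ω * (Fintype.card Ω - 1)) {v w : Ω} (hv : D.x • v = v) (hw : D.x • w = w) : v = w := by
  classical
  by_contra hne
  have hfin : Finite G := Nat.finite_of_card_ne_zero (by rw [hG]; norm_num)
  have h1 := h2.index_of_fixingSubgroup_mul (s := {v, w}) (Set.ncard_pair hne)
  have hc : 2 ≤ Nat.card Ω := by
    have h3 : ({v, w} : Set Ω).ncard ≤ (Set.univ : Set Ω).ncard := Set.ncard_le_ncard (Set.subset_univ _)
    rwa [Set.ncard_pair hne, Set.ncard_univ] at h3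
  have h3 : (fixingSubgroup G ({v, w} : Set Ω)).index = Nat.card Ω * (Nat.card Ω - 1) := by
    obtain ⟨n, hn⟩ := Nat.exists_eq_add_of_le hc
    rw [hn] at h1 ⊢
    have e1 : (2 + n - 2) = n := by omega
    have e2 : (2 + n - 1) = n + 1 := by omega
    rw [e1, show 2 + n = n + 2 by ring, Nat.factorial_succ, Nat.factorial_succ] at h1
    rw [e2]
    have h4 := Nat.factorial_pos n
    have h5 : (fixingSubgroup G ({v, w} : Set Ω)).index * n.factorial = ((2 + n) * (n + 1)) * n.factorial := by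
      rw [h1]; ring
    exact Nat.eq_of_mul_eq_mul_right h4 h5
  have hx : D.x ∈ fixingSubgroup G ({v, w} : Set Ω) := by
    rw [mem_fixingSubgroup_iff]
    rintro y hy
    rcases hy with rfl | hy
    · exact hv
    · rw [Set.mem_singleton_iff] at hy
      rw [hy]; exact hw
  have : Fact (Nat.Prime 13) := ⟨by norm_num⟩
  have ho : orderOf D.x = 13 := orderOf_eq_prime D.x13 D.x1
  have h6 : 13 ∣ Nat.card (fixingSubgroup G ({v, w} : Set Ω)) := by
    rw [← ho]
    exact Subgroup.orderOf_dvd_natCard _ hx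
  have h7 := (fixingSubgroup G ({v, w} : Set Ω)).card_mul_index
  rw [h3, Nat.card_eq_fintype_card (α := Ω)] at h7
  have h8 : 13 * 13 ∣ Nat.card G := by
    rw [← h7]
    exact mul_dvd_mul h6 h13
  rw [hG] at h8
  revert h8
  norm_num

theorem degree_dvd (hG : Nat.card G = 2 ^ 11 * 3 ^ 3 * 5 ^ 2 * 13) (h2 : IsMultiplyPretransitive G Ω 2)
    (hΩ : 3 ≤ Fintype.card Ω) : Fintype.card Ω * (Fintype.card Ω - 1) ∣ Nat.card G := by
  classical
  have hfin : Finite G := Nat.finite_of_card_ne_zero (by rw [hG]; norm_num)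
  obtain ⟨v, w, hne⟩ := Fintype.exists_pair_of_one_lt_card (by omega : 1 < Fintype.card Ω)
  have h1 := h2.index_of_fixingSubgroup_mul (s := {v, w}) (Set.ncard_pair hne)
  rw [Nat.card_eq_fintype_card] at h1
  have h3 : (fixingSubgroup G ({v, w} : Set Ω)).index = Fintype.card Ω * (Fintype.card Ω - 1) := by
    obtain ⟨n, hn⟩ := Nat.exists_eq_add_of_le (by omega : 2 ≤ Fintype.card Ω)
    rw [hn] at h1 ⊢
    have e1 : (2 + n - 2) = n := by omega
    have e2 : (2 + n - 1) = n + 1 := by omega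
    rw [e1, show 2 + n = n + 2 by ring, Nat.factorial_succ, Nat.factorial_succ] at h1
    rw [e2]
    have h4 := Nat.factorial_pos n
    have h5 : (fixingSubgroup G ({v, w} : Set Ω)).index * n.factorial = ((2 + n) * (n + 1)) * n.factorial := by
      rw [h1]; ring
    exact Nat.eq_of_mul_eq_mul_right h4 h5
  rw [← h3]
  exact (fixingSubgroup G ({v, w} : Set Ω)).index_dvd_card

theorem arith_chk : (List.range 4300).all (fun n => Nat.blt n 27 || (!(Nat.beq (17971200 % (n * (n - 1))) 0) ||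
    (Nat.beq n 27 || (Nat.beq n 40 || Nat.beq n 65)))) = true := by
  decide +kernel

theorem arith (n : ℕ) (h1 : n < 4300) (h2 : 27 ≤ n) (h3 : n * (n - 1) ∣ 2 ^ 11 * 3 ^ 3 * 5 ^ 2 * 13) :
    n = 27 ∨ n = 40 ∨ n = 65 := by
  have h := arith_chk
  rw [List.all_eq_true] at h
  have h4 := h n (List.mem_range.2 h1)
  simp only [Bool.or_eq_true, Bool.not_eq_true', Nat.blt_eq] at h4
  rcases h4 with h4 | h4 | h4
  · omega
  · exfalso
    have h5 : 17971200 % (n * (n - 1)) = 0 := Nat.mod_eq_zero_of_dvd (by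
      have e : 2 ^ 11 * 3 ^ 3 * 5 ^ 2 * 13 = 17971200 := by norm_num
      rwa [e] at h3)
    rw [h5] at h4
    exact absurd h4 (by decide)
  · rcases h4 with h4 | h4 | h4
    · exact Or.inl (Nat.eq_of_beq_eq_true h4)
    · exact Or.inr (Or.inl (Nat.eq_of_beq_eq_true h4))
    · exact Or.inr (Or.inr (Nat.eq_of_beq_eq_true h4))

include D in
/-- **No faithful 2-transitive action.** -/
theorem no_two [FaithfulSMul G Ω] (hG : Nat.card G = 2 ^ 11 * 3 ^ 3 * 5 ^ 2 * 13) (h2 : IsMultiplyPretransitive G Ω 2)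
    (hΩ : 3 ≤ Fintype.card Ω) : False := by
  classical
  have hfin : Finite G := Nat.finite_of_card_ne_zero (by rw [hG]; norm_num)
  obtain ⟨k, hk⟩ := D.burnside (Ω := Ω)
  have hlt := D.fx_lt (Ω := Ω)
  have hd := degree_dvd hG h2 hΩ
  rw [hG] at hd
  have h27 : 27 ≤ Fintype.card Ω := by omega
  have hle : Fintype.card Ω < 4300 := by
    by_contra hcon
    have h3 := Nat.le_of_dvd (by norm_num) hd
    have h4 : 4300 * 4299 ≤ Fintype.card Ω * (Fintype.card Ω - 1) := Nat.mul_le_mul (by omega) (by omega)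
    omega
  have hn := arith _ hle h27 hd
  have h13 : 13 ∣ Fintype.card Ω * (Fintype.card Ω - 1) := by
    rcases hn with h | h | h <;> rw [h] <;> norm_num
  have hone : ∀ v w : Ω, D.x • v = v → D.x • w = w → v = w := fun v w hv hw => D.not_two hG h2 h13 hv hw
  have hm := D.mul_card_le (Ω := Ω)
  -- `f ≤ 1 + card`
  have hf : fx Ω D.t ≤ 1 + Nat.card {w : Ω // D.t • w = w ∧ D.x • w ≠ w} := by
    unfold fx
    have h5 : Nat.card (fixedBy Ω D.t) ≤ Nat.card (Option {w : Ω // D.t • w = w ∧ D.x • w ≠ w}) := by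
      apply Nat.card_le_card_of_injective
        (fun w : fixedBy Ω D.t => if h : D.x • (w : Ω) = w then none else some ⟨(w : Ω), w.2, h⟩)
      intro v w hvw
      apply Subtype.ext
      simp only at hvw
      split_ifs at hvw with h6 h7 h7
      · exact hone _ _ h6 h7
      · simp only [Option.some.injEq, Subtype.mk.injEq] at hvw
        exact hvw
    rw [Finite.card_option] at h5
    omega
  rcases hn with h | h | h
  · -- degree 27
    have hf0 : fx Ω D.t = 0 := by omega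
    have : Fact (Nat.Prime 13) := ⟨by norm_num⟩
    have hp : IsPGroup 13 (Subgroup.zpowers D.x) := by
      apply IsPGroup.of_card (n := 1)
      rw [Nat.card_zpowers, orderOf_eq_prime D.x13 D.x1]
      norm_num
    have h6 := hp.card_modEq_card_fixedPoints Ω
    have h7 : (fixedPoints (Subgroup.zpowers D.x) Ω).Nonempty := by
      by_contra hne
      rw [Set.not_nonempty_iff_eq_empty] at hne
      rw [hne, Nat.card_eq_fintype_card, h, Nat.card_coe_set_eq, Set.ncard_empty] at h6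
      revert h6
      decide
    obtain ⟨v, hv⟩ := h7
    have hv1 : D.x • v = v := hv ⟨D.x, Subgroup.mem_zpowers _⟩
    have hv2 : D.x • (D.t • v) = D.t • v := by
      -- `t⁻¹ x t = x⁹`
      have e : D.x * D.t = D.t * D.x ^ 9 := by
        have e1 : D.t * D.x ^ 9 * D.t⁻¹ = D.x ^ 27 := by
          rw [← conj_pow, D.txt, ← pow_mul]
        have e2 : D.x ^ 27 = D.x := by
          rw [show 27 = 13 * 2 + 1 by norm_num, pow_add, pow_mul, D.x13, one_pow, one_mul, pow_one]
        rw [e2] at e1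
        calc D.x * D.t = (D.t * D.x ^ 9 * D.t⁻¹) * D.t := by rw [e1]
          _ = D.t * D.x ^ 9 := inv_mul_cancel_right _ _
      rw [← mul_smul, e, mul_smul]
      congr 1
      have e3 : ∀ n : ℕ, D.x ^ n • v = v := by
        intro n
        induction n with
        | zero => simp
        | succ n ih => rw [pow_succ, mul_smul, hv1, ih]
      exact e3 9
    have hv3 := hone _ _ hv2 hv1
    have hpos : 0 < fx Ω D.t := by
      unfold fx
      have : Nonempty (fixedBy Ω D.t) := ⟨⟨v, hv3⟩⟩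
      exact Nat.card_pos
    omega
  · omega
  · omega

end

end Dat

end Cfsg.Agent.H87.TitsAbs
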