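import Mathlib
import Cfsg.Agent.S2552
import Cfsg.Agent.H139.FlagInner
import Cfsg.Agent.S0242
import Cfsg.Agent.LieClassical.SympCount
import Cfsg.Agent.FastGrp
import Cfsg.Agent.Prune
set_option linter.all false

section
prune_inst 0x7ffffdffbabde5dfffff7e3ff6f0effdf5babfffe6dffdfbffe4e1bfafdf6b824be1ff87efeb10fe1f77e21410f87b93f97eebbfe86bd87ffffd1ff45ffbff8fedf7b908319e9cb40f3e2fffe3f0778a6f3fffffffffffffffffffffffffffbeffbfffffffff

-- part: H87/Flags
section
set_option linter.all false
open scoped Cfsg.Agent.FastGrp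

/-!
# Flags of subspaces and linear group actions

`Fl F V d` : chains of subspaces with the dimensions `d`; the action of a group acting linearly; `chain` : the
general linear group is transitive on the chains of given dimensions.
-/

set_option autoImplicit false
set_option linter.unusedSectionVars false

namespace Cfsg.Agent.H87.Flags

open Module Submodule
open scoped Pointwise

section act

variable {H F V : Type*} [Group H] [Field F] [AddCommGroup V] [Module F V] [DistribMulAction H V] [SMulCommClass H F V]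

theorem finrank_smul (h : H) (W : Submodule F V) : finrank F ↥(h • W) = finrank F W := by
  have e : h • W = W.map (DistribMulAction.toLinearEquiv F V h : V →ₗ[F] V) := rfl
  rw [e]
  exact LinearEquiv.finrank_map_eq _ _

theorem smul_le_smul {h : H} {W W' : Submodule F V} : h • W ≤ h • W' ↔ W ≤ W' := by
  constructor
  · intro hh x hx
    have h1 : h • x ∈ h • W' := hh (smul_mem_pointwise_smul _ _ _ hx)
    rw [mem_smul_pointwise_iff_exists] at h1
    obtain ⟨b, hb, e⟩ := h1
    rw [smul_left_cancel_iff] at e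
    rwa [← e]
  · intro hh x hx
    rw [mem_smul_pointwise_iff_exists] at hx ⊢
    obtain ⟨b, hb, e⟩ := hx
    exact ⟨b, hh hb, e⟩

theorem smul_mem_smul {h : H} {W : Submodule F V} {v : V} : h • v ∈ h • W ↔ v ∈ W := by
  constructor
  · intro hh
    rw [mem_smul_pointwise_iff_exists] at hh
    obtain ⟨b, hb, e⟩ := hh
    rw [smul_left_cancel_iff] at e
    rwa [← e]
  · intro hh
    exact smul_mem_pointwise_smul _ _ _ hh

theorem mem_smul_iff {h : H} {W : Submodule F V} {v : V} : v ∈ h • W ↔ h⁻¹ • v ∈ W := by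
  rw [← smul_mem_smul (h := h) (v := h⁻¹ • v), smul_inv_smul]

theorem act_span (h : H) (v : V) : h • span F {v} = span F {h • v} := by
  have e : h • span F {v} = (span F {v}).map (DistribMulAction.toLinearEquiv F V h : V →ₗ[F] V) := rfl
  rw [e, map_span, Set.image_singleton]
  rfl

theorem act_sup (h : H) (A B : Submodule F V) : h • (A ⊔ B) = h • A ⊔ h • B := by
  have e : ∀ W : Submodule F V, h • W = W.map (DistribMulAction.toLinearEquiv F V h : V →ₗ[F] V) := fun _ => rfl
  rw [e, e, e, Submodule.map_sup]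

theorem act_inf (h : H) (A B : Submodule F V) : h • (A ⊓ B) = h • A ⊓ h • B := by
  apply le_antisymm
  · exact le_inf (smul_le_smul.2 inf_le_left) (smul_le_smul.2 inf_le_right)
  · rintro x ⟨h1, h2⟩
    have e : x = h • (h⁻¹ • x) := by rw [smul_inv_smul]
    rw [SetLike.mem_coe, e, smul_mem_smul] at h1 h2
    rw [e, smul_mem_smul]
    exact ⟨h1, h2⟩

end act

/-- chains of subspaces with given dimensions. -/
def Fl (F V : Type*) [Field F] [AddCommGroup V] [Module F V] {k : ℕ} (d : Fin k → ℕ) : Type _ :=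
  {W : Fin k → Submodule F V // Monotone W ∧ ∀ i, finrank F (W i) = d i}

section act2

variable {H F V : Type*} [Group H] [Field F] [AddCommGroup V] [Module F V] [DistribMulAction H V] [SMulCommClass H F V]
variable {k : ℕ} {d : Fin k → ℕ}

instance : MulAction H (Fl F V d) where
  smul h W := ⟨fun i => h • W.1 i, fun _ _ hij => smul_le_smul.2 (W.2.1 hij), fun i => by
    rw [finrank_smul, W.2.2 i]⟩
  one_smul W := Subtype.ext (funext fun i => one_smul H (W.1 i))
  mul_smul g h W := Subtype.ext (funext fun i => mul_smul g h (W.1 i))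

theorem smul_val (h : H) (W : Fl F V d) (i : Fin k) : (h • W).1 i = h • W.1 i := rfl

instance [Finite V] : Finite (Fl F V d) := by
  have : Finite (Submodule F V) := inferInstance
  unfold Fl
  infer_instance

end act2

section chain

variable {F V : Type*} [Field F] [AddCommGroup V] [Module F V] [FiniteDimensional F V]

/-- moving `A` to `B` over a common subspace. -/
theorem ext_aux {U A B : Submodule F V} (hA : U ≤ A) (hB : U ≤ B) (h : finrank F A = finrank F B) :
    ∃ g : V ≃ₗ[F] V, (∀ u ∈ U, g u = u) ∧ A.map (g : V →ₗ[F] V) = B := by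
  obtain ⟨Q, hQ⟩ := Submodule.exists_isCompl U
  have hfr : ∀ {C : Submodule F V}, U ≤ C → finrank F U + finrank F ↥(C ⊓ Q) = finrank F C := by
    intro C hC
    have h1 := finrank_sup_add_finrank_inf_eq U (C ⊓ Q)
    have h2 : U ⊓ (C ⊓ Q) = ⊥ := by
      rw [eq_bot_iff, ← hQ.inf_eq_bot]
      exact inf_le_inf_left _ inf_le_right
    have h3 : U ⊔ (C ⊓ Q) = C := by
      rw [inf_comm, ← sup_inf_assoc_of_le Q hC, hQ.sup_eq_top, top_inf_eq]
    rw [h2, h3, finrank_bot, add_zero] at h1
    exact h1.symm
  have h1 : finrank F ↥(A ⊓ Q) = finrank F ↥(B ⊓ Q) := by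
    have := hfr hA
    have := hfr hB
    omega
  -- an automorphism of `Q`
  obtain ⟨gQ, hgQ⟩ : ∃ gQ : Q ≃ₗ[F] Q, ((A ⊓ Q).comap Q.subtype).map (gQ : Q →ₗ[F] Q) = (B ⊓ Q).comap Q.subtype := by
    apply Cfsg.Agent.S2552.exists_gl
    rw [(comapSubtypeEquivOfLe (inf_le_right : A ⊓ Q ≤ Q)).finrank_eq,
      (comapSubtypeEquivOfLe (inf_le_right : B ⊓ Q ≤ Q)).finrank_eq, h1]
  let E := Submodule.prodEquivOfIsCompl U Q hQ
  let g : V ≃ₗ[F] V := E.symm ≪≫ₗ ((LinearEquiv.refl F U).prodCongr gQ) ≪≫ₗ E
  have hg : ∀ (u : U) (w : Q), g ((u : V) + (w : V)) = (u : V) + (gQ w : V) := by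
    intro u w
    have h2 : E.symm ((u : V) + (w : V)) = (u, w) := by
      apply E.injective
      rw [E.apply_symm_apply]
      simp [E]
    change E (((LinearEquiv.refl F U).prodCongr gQ) (E.symm ((u : V) + (w : V)))) = _
    rw [h2]
    simp [E]
  refine ⟨g, ?_, ?_⟩
  · intro u hu
    have := hg ⟨u, hu⟩ 0
    rw [map_zero] at this
    simpa using this
  · apply eq_of_le_of_finrank_eq
    · rintro _ ⟨x, hx, rfl⟩
      have hx' : x ∈ U ⊔ Q := by rw [hQ.sup_eq_top]; exact mem_top
      obtain ⟨u, hu, w, hw, rfl⟩ := mem_sup.1 hx'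
      have hwA : w ∈ A := (add_mem_cancel_left (hA hu)).1 hx
      have h2 : g (u + w) = u + (gQ ⟨w, hw⟩ : V) := hg ⟨u, hu⟩ ⟨w, hw⟩
      change g (u + w) ∈ B
      rw [h2]
      apply add_mem (hB hu)
      have h3 : gQ ⟨w, hw⟩ ∈ (B ⊓ Q).comap Q.subtype := by
        rw [← hgQ]
        exact mem_map_of_mem (by exact ⟨hwA, hw⟩)
      exact h3.1
    · rw [LinearEquiv.finrank_map_eq, h]

/-- the general linear group is transitive on chains of given dimensions. -/
theorem chain {k : ℕ} (W W' : Fin k → Submodule F V) (hW : Monotone W) (hW' : Monotone W')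
    (h : ∀ i, finrank F (W i) = finrank F (W' i)) :
    ∃ g : V ≃ₗ[F] V, ∀ i, (W i).map (g : V →ₗ[F] V) = W' i := by
  induction k with
  | zero => exact ⟨LinearEquiv.refl F V, fun i => i.elim0⟩
  | succ k ih =>
    obtain ⟨g, hg⟩ := ih (fun i => W i.castSucc) (fun i => W' i.castSucc)
      (fun i j hij => hW (Fin.castSucc_le_castSucc_iff.2 hij))
      (fun i j hij => hW' (Fin.castSucc_le_castSucc_iff.2 hij)) (fun i => h i.castSucc)
    have hU1 : (⨆ i : Fin k, W' i.castSucc) ≤ (W (Fin.last k)).map (g : V →ₗ[F] V) := by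
      apply iSup_le
      intro i
      rw [← hg i]
      exact map_mono (hW (Fin.le_last _))
    have hU2 : (⨆ i : Fin k, W' i.castSucc) ≤ W' (Fin.last k) := iSup_le fun i => hW' (Fin.le_last _)
    obtain ⟨g', hg'1, hg'2⟩ := ext_aux hU1 hU2 (by rw [LinearEquiv.finrank_map_eq, h])
    refine ⟨g ≪≫ₗ g', ?_⟩
    have hcomp : ∀ C : Submodule F V, C.map ((g ≪≫ₗ g' : V ≃ₗ[F] V) : V →ₗ[F] V) =
        (C.map (g : V →ₗ[F] V)).map (g' : V →ₗ[F] V) := by
      intro C
      rw [← Submodule.map_comp]
      rfl
    intro i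
    refine Fin.lastCases ?_ (fun i => ?_) i
    · rw [hcomp, hg'2]
    · rw [hcomp, hg i]
      apply eq_of_le_of_finrank_eq
      · rintro _ ⟨x, hx, rfl⟩
        have : g' x = x := hg'1 x (le_iSup (fun i : Fin k => W' i.castSucc) i hx)
        change g' x ∈ _
        rw [this]
        exact hx
      · rw [LinearEquiv.finrank_map_eq]

end chain

end Cfsg.Agent.H87.Flags
end

-- part: H87/Orb
section
set_option linter.all false
open scoped Cfsg.Agent.FastGrp

/-!
# Permutation characters as real functions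

* `ip` : the inner product of real functions on a finite group; `pc G Y` : the permutation character;
* `ip_pc` : `ip (pc Y) (pc Z)` is the number of orbits on `Y × Z`;
* `card_orbits_prod` : for `X` transitive this is the number of orbits of a point stabiliser on `Y`.
* `nOrb` and invariants: counting orbits by invariant functions.
-/

set_option autoImplicit false
set_option linter.unusedSectionVars false

namespace Cfsg.Agent.H87.Orb

open Finset MulAction

section ip

variable {G : Type*} [Group G] [Fintype G]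

/-- the inner product of real functions. -/
noncomputable def ip (f g : G → ℝ) : ℝ := (Fintype.card G : ℝ)⁻¹ * ∑ x, f x * g x

theorem ip_comm (f g : G → ℝ) : ip f g = ip g f := by
  unfold ip
  congr 1
  apply sum_congr rfl
  intro x _
  ring

theorem ip_add_left (f g h : G → ℝ) : ip (f + g) h = ip f h + ip g h := by
  unfold ip
  rw [← mul_add, ← sum_add_distrib]
  congr 1
  apply sum_congr rfl
  intro x _
  rw [Pi.add_apply]
  ring

theorem ip_add_right (f g h : G → ℝ) : ip f (g + h) = ip f g + ip f h := by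
  rw [ip_comm, ip_add_left, ip_comm g, ip_comm h]

theorem ip_smul_left (c : ℝ) (f g : G → ℝ) : ip (c • f) g = c * ip f g := by
  have h1 : ∑ x, (c • f) x * g x = c * ∑ x, f x * g x := by
    rw [mul_sum]
    apply sum_congr rfl
    intro x _
    rw [Pi.smul_apply, smul_eq_mul]
    ring
  unfold ip
  rw [h1]
  ring

theorem ip_smul_right (c : ℝ) (f g : G → ℝ) : ip f (c • g) = c * ip f g := by
  rw [ip_comm, ip_smul_left, ip_comm]

theorem ip_neg_left (f g : G → ℝ) : ip (-f) g = - ip f g := by
  rw [← neg_one_smul ℝ f, ip_smul_left]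
  ring

theorem ip_neg_right (f g : G → ℝ) : ip f (-g) = - ip f g := by
  rw [ip_comm, ip_neg_left, ip_comm]

theorem ip_sub_left (f g h : G → ℝ) : ip (f - g) h = ip f h - ip g h := by
  rw [sub_eq_add_neg, ip_add_left, ip_neg_left]
  ring

theorem ip_sub_right (f g h : G → ℝ) : ip f (g - h) = ip f g - ip f h := by
  rw [ip_comm, ip_sub_left, ip_comm g, ip_comm h]

theorem ip_zero_left (f : G → ℝ) : ip 0 f = 0 := by
  simp [ip]

theorem ip_zero_right (f : G → ℝ) : ip f 0 = 0 := by
  simp [ip]

theorem ip_self_nonneg (f : G → ℝ) : 0 ≤ ip f f := by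
  unfold ip
  apply mul_nonneg
  · positivity
  · exact sum_nonneg fun x _ => mul_self_nonneg _

theorem ip_self_eq_zero {f : G → ℝ} (h : ip f f = 0) : f = 0 := by
  unfold ip at h
  rcases mul_eq_zero.1 h with h1 | h1
  · exfalso
    have : (Fintype.card G : ℝ) ≠ 0 := by
      rw [Nat.cast_ne_zero]
      exact Fintype.card_ne_zero
    exact this (inv_eq_zero.1 h1)
  · rw [sum_eq_zero_iff_of_nonneg (fun x _ => mul_self_nonneg _)] at h1
    funext x
    exact mul_self_eq_zero.1 (h1 x (mem_univ x))

theorem ip_sum_right {ι : Type*} (s : Finset ι) (f : G → ℝ) (g : ι → G → ℝ) :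
    ip f (∑ i ∈ s, g i) = ∑ i ∈ s, ip f (g i) := by
  classical
  induction s using Finset.induction_on with
  | empty => rw [sum_empty, sum_empty, ip_zero_right]
  | insert a s ha ih => rw [sum_insert ha, sum_insert ha, ip_add_right, ih]

theorem ip_sum_left {ι : Type*} (s : Finset ι) (f : G → ℝ) (g : ι → G → ℝ) :
    ip (∑ i ∈ s, g i) f = ∑ i ∈ s, ip (g i) f := by
  rw [ip_comm, ip_sum_right]
  exact sum_congr rfl fun i _ => ip_comm _ _

/-- two unit vectors with inner product `±1`. -/
theorem eq_of_norm_one {f g : G → ℝ} (hf : ip f f = 1) (hg : ip g g = 1) (h : ip f g = 1) : f = g := by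
  have h1 : ip (f - g) (f - g) = 0 := by
    rw [ip_sub_left, ip_sub_right, ip_sub_right, hf, hg, h, ip_comm g f, h]
    ring
  have := ip_self_eq_zero h1
  exact sub_eq_zero.1 this

theorem ip_sq_le {f g : G → ℝ} (hf : ip f f = 1) (hg : ip g g = 1) : |ip f g| ≤ 1 := by
  have h1 := ip_self_nonneg (f - g)
  have h2 := ip_self_nonneg (f + g)
  rw [ip_sub_left, ip_sub_right, ip_sub_right, hf, hg, ip_comm g f] at h1
  rw [ip_add_left, ip_add_right, ip_add_right, hf, hg, ip_comm g f] at h2
  rw [abs_le]
  constructor <;> linarith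

end ip

section pc

variable (G : Type*) [Group G]

/-- the permutation character. -/
noncomputable def pc (Y : Type*) [MulAction G Y] : G → ℝ := fun g => (Nat.card (fixedBy Y g) : ℝ)

/-- the number of orbits. -/
noncomputable def nOrb (Y : Type*) [MulAction G Y] : ℕ := Nat.card (orbitRel.Quotient G Y)

variable {G}

theorem pc_one (Y : Type*) [MulAction G Y] : pc G Y 1 = Nat.card Y := by
  unfold pc
  congr 1
  exact Nat.card_congr (Equiv.subtypeUnivEquiv (fun y => one_smul G y))

theorem pc_congr {Y Z : Type*} [MulAction G Y] [MulAction G Z] (e : Y ≃ Z) (he : ∀ (g : G) (y : Y), e (g • y) = g • e y) :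
    pc G Y = pc G Z := by
  funext g
  unfold pc
  congr 1
  refine Nat.card_congr (e.subtypeEquiv fun y => ?_)
  rw [mem_fixedBy, mem_fixedBy, ← he]
  exact e.injective.eq_iff.symm

theorem ip_pc [Fintype G] (Y Z : Type*) [MulAction G Y] [MulAction G Z] [Finite Y] [Finite Z] :
    ip (pc G Y) (pc G Z) = (nOrb G (Y × Z) : ℝ) := by
  classical
  have : Fintype Y := Fintype.ofFinite _
  have : Fintype Z := Fintype.ofFinite _
  have h1 : ∀ g : G, pc G Y g * pc G Z g = (Fintype.card (fixedBy (Y × Z) g) : ℝ) := by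
    intro g
    rw [pc, pc, ← Nat.cast_mul, ← Nat.card_prod, ← Nat.card_eq_fintype_card]
    congr 1
    refine Nat.card_congr ⟨fun x => ⟨(x.1.1, x.2.1), ?_⟩, fun x => (⟨x.1.1, ?_⟩, ⟨x.1.2, ?_⟩), ?_, ?_⟩
    · rw [mem_fixedBy]
      exact Prod.ext x.1.2 x.2.2
    · exact congrArg Prod.fst x.2
    · exact congrArg Prod.snd x.2
    · intro x; rfl
    · intro x; rfl
  have h2 := sum_card_fixedBy_eq_card_orbits_mul_card_group G (Y × Z)
  rw [ip, Finset.sum_congr rfl (fun g _ => h1 g), ← Nat.cast_sum, h2, Nat.cast_mul, nOrb, ← Nat.card_eq_fintype_card,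
    ← Nat.card_eq_fintype_card, mul_comm, mul_assoc, mul_inv_cancel₀, mul_one]
  rw [Nat.cast_ne_zero]
  exact Nat.card_pos.ne'

theorem nOrb_congr {H : Type*} [Group H] {Y Z : Type*} [MulAction G Y] [MulAction H Z] (e : Y ≃ Z)
    (he : ∀ y y' : Y, y ∈ orbit G y' ↔ e y ∈ orbit H (e y')) : nOrb G Y = nOrb H Z := by
  unfold nOrb
  exact Nat.card_congr (Quotient.congr e he)

/-- orbits on `X × Y` for `X` transitive. -/
theorem card_orbits_prod {X Y : Type*} [MulAction G X] [MulAction G Y] [IsPretransitive G X] (x : X) :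
    nOrb G (X × Y) = nOrb (stabilizer G x) Y := by
  unfold nOrb
  symm
  refine Nat.card_congr (Equiv.ofBijective (Quotient.map' (fun y : Y => (x, y)) ?_) ⟨?_, ?_⟩)
  · rintro y y' ⟨k, rfl⟩
    refine ⟨k.1, ?_⟩
    change (k.1 • x, k.1 • y') = (x, k.1 • y')
    rw [k.2]
  · intro a b
    refine Quotient.inductionOn₂ a b ?_
    intro y y' h
    have h1 : (x, y) ∈ orbit G (x, y') := (Quotient.exact h : _)
    obtain ⟨g, hg⟩ := h1
    apply Quotient.sound
    refine ⟨⟨g, congrArg Prod.fst hg⟩, congrArg Prod.snd hg⟩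
  · intro a
    refine Quotient.inductionOn a ?_
    rintro ⟨x', y⟩
    obtain ⟨g, hg⟩ := exists_smul_eq G x' x
    refine ⟨Quotient.mk _ (g • y), ?_⟩
    apply Quotient.sound
    refine ⟨g, ?_⟩
    change (g • x', g • y) = (x, g • y)
    rw [hg]

theorem nOrb_eq_one {Y : Type*} [MulAction G Y] [IsPretransitive G Y] [Nonempty Y] : nOrb G Y = 1 := by
  unfold nOrb
  rw [Nat.card_eq_one_iff_unique]
  constructor
  · constructor
    intro a b
    refine Quotient.inductionOn₂ a b ?_
    intro y y'
    exact Quotient.sound (exists_smul_eq G y' y)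
  · exact ⟨Quotient.mk _ (Classical.arbitrary Y)⟩

theorem nOrb_pos {Y : Type*} [MulAction G Y] [Finite Y] [Nonempty Y] : 0 < nOrb G Y := by
  have : Nonempty (orbitRel.Quotient G Y) := ⟨Quotient.mk _ (Classical.arbitrary Y)⟩
  exact Nat.card_pos

theorem pretransitive_of_nOrb {Y : Type*} [MulAction G Y] (h : nOrb G Y = 1) (y y' : Y) : ∃ g : G, g • y = y' := by
  unfold nOrb at h
  rw [Nat.card_eq_one_iff_unique] at h
  have h1 := h.1.elim (Quotient.mk (orbitRel G Y) y') (Quotient.mk _ y)
  exact Quotient.exact h1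

/-- the classes of an action as a function to `Fin N`. -/
theorem exists_class {Y : Type*} [MulAction G Y] [Finite Y] {N : ℕ} (h : nOrb G Y = N) :
    ∃ c : Y → Fin N, Function.Surjective c ∧ ∀ x y, c x = c y ↔ ∃ g : G, g • y = x := by
  have hfin : Finite (orbitRel.Quotient G Y) := inferInstance
  subst h
  let e : orbitRel.Quotient G Y ≃ Fin (nOrb G Y) := Finite.equivFin _
  refine ⟨fun y => e (Quotient.mk _ y), ?_, ?_⟩
  · intro t
    obtain ⟨y, hy⟩ := Quotient.exists_rep (e.symm t)
    refine ⟨y, ?_⟩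
    change e (Quotient.mk _ y) = t
    rw [hy, e.apply_symm_apply]
  · intro x y
    rw [e.injective.eq_iff]
    exact ⟨fun h => Quotient.exact h, fun h => Quotient.sound h⟩

/-- An invariant function bounds the number of orbits. -/
theorem card_le_nOrb {Y T : Type*} [MulAction G Y] [Finite Y] (f : Y → T) (hf : ∀ (g : G) (y : Y), f (g • y) = f y)
    (s : Finset T) (hs : ∀ t ∈ s, ∃ y, f y = t) : s.card ≤ nOrb G Y := by
  classical
  have : Fintype Y := Fintype.ofFinite _
  have : Fintype (orbitRel.Quotient G Y) := Fintype.ofFinite _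
  let f' : orbitRel.Quotient G Y → T := Quotient.lift f (by
    rintro y y' ⟨g, rfl⟩
    exact hf g y')
  have h1 : s ⊆ univ.image f' := by
    intro t ht
    obtain ⟨y, hy⟩ := hs t ht
    exact mem_image.2 ⟨Quotient.mk _ y, mem_univ _, hy⟩
  calc s.card ≤ (univ.image f').card := card_le_card h1
    _ ≤ (univ : Finset (orbitRel.Quotient G Y)).card := card_image_le
    _ = nOrb G Y := by rw [nOrb, Nat.card_eq_fintype_card, card_univ]

/-- An invariant function with as many values as orbits is a complete invariant. -/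
theorem orbit_of_invariant {Y T : Type*} [MulAction G Y] [Finite Y] (f : Y → T)
    (hf : ∀ (g : G) (y : Y), f (g • y) = f y) (s : Finset T) (hs : ∀ t ∈ s, ∃ y, f y = t) (hc : nOrb G Y ≤ s.card)
    {y y' : Y} (h : f y = f y') : ∃ g : G, g • y = y' := by
  classical
  have : Fintype Y := Fintype.ofFinite _
  have : Fintype (orbitRel.Quotient G Y) := Fintype.ofFinite _
  let f' : orbitRel.Quotient G Y → T := Quotient.lift f (by
    rintro y y' ⟨g, rfl⟩
    exact hf g y')
  have h1 : s ⊆ univ.image f' := by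
    intro t ht
    obtain ⟨y, hy⟩ := hs t ht
    exact mem_image.2 ⟨Quotient.mk _ y, mem_univ _, hy⟩
  have h2 : (univ : Finset (orbitRel.Quotient G Y)).card ≤ (univ.image f').card := by
    calc (univ : Finset (orbitRel.Quotient G Y)).card = nOrb G Y := by
          rw [nOrb, Nat.card_eq_fintype_card, card_univ]
      _ ≤ s.card := hc
      _ ≤ (univ.image f').card := card_le_card h1
  have h3 : Function.Injective f' := by
    have h4 := card_image_iff.1 (le_antisymm card_image_le h2)
    exact fun a b hab => h4 (mem_coe.2 (mem_univ a)) (mem_coe.2 (mem_univ b)) hab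
  have h4 : (Quotient.mk (orbitRel G Y) y') = Quotient.mk _ y := h3 (by
    change f y' = f y
    exact h.symm)
  exact Quotient.exact h4

end pc

end Cfsg.Agent.H87.Orb

private theorem dce_ad25631f9ba2 : _root_.True := by
  try have : _root_.True := by simp only [_root_.Cfsg.Agent.H87.Orb.nOrb.eq_1]
  try have : _root_.True := by simp only [_root_.Cfsg.Agent.H87.Orb.ip.eq_1]
  try have : _root_.True := by simp only [_root_.Cfsg.Agent.H87.Orb.pc.eq_1]
  exact _root_.True.intro
end

-- part: H87/FlagsGL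
section
prune_inst 0x40400a200000018000070000000100000020000000081400000014008412001000100400008001098400800002811440020426000000e00000040050000800044001200010c040001808000410000000000000000000000000000000000000000000
set_option linter.all false
open scoped Cfsg.Agent.FastGrp

-- part: H87/SLInner
section
/-!
# Inner products of flag characters of `SL_n(q)`

`ip_theta` : the inner product over `SL_n(q)` of the permutation characters on the cosets of two standard parabolic
subgroups of `GL_n(q)` is the number of matrices with the given margins.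
-/

set_option autoImplicit false

namespace Cfsg.Agent.H87.SLInner

open scoped MatrixGroups
open Finset MulAction Matrix Cfsg.Agent.H87.Orb Cfsg.Agent.H139.Bruhat Cfsg.Agent.H139.FlagInner
open Cfsg.Agent.H139.Young Cfsg.Agent.H139

variable {F : Type*} [Field F] {n : ℕ}

/-- the cosets of a standard parabolic subgroup. -/
def Co (F : Type*) [Field F] {n : ℕ} (a : Fin n → ℕ) : Type _ := GL (Fin n) F ⧸ parabolicGL n F a

instance (a : Fin n → ℕ) : MulAction (GL (Fin n) F) (Co F a) :=
  inferInstanceAs (MulAction (GL (Fin n) F) (GL (Fin n) F ⧸ parabolicGL n F a))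

instance (a : Fin n → ℕ) : IsPretransitive (GL (Fin n) F) (Co F a) :=
  inferInstanceAs (IsPretransitive (GL (Fin n) F) (GL (Fin n) F ⧸ parabolicGL n F a))

instance (a : Fin n → ℕ) : MulAction (SpecialLinearGroup (Fin n) F) (Co F a) :=
  MulAction.compHom _ (SpecialLinearGroup.toGL (n := Fin n) (R := F))

instance [Finite F] (a : Fin n → ℕ) : Finite (Co F a) :=
  inferInstanceAs (Finite (GL (Fin n) F ⧸ parabolicGL n F a))

instance (a : Fin n → ℕ) : Nonempty (Co F a) :=
  inferInstanceAs (Nonempty (GL (Fin n) F ⧸ parabolicGL n F a))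

/-- diagonal matrices. -/
def dg (d : Fin n → Fˣ) : GL (Fin n) F :=
  Units.map (Matrix.diagonalRingHom (Fin n) F).toMonoidHom (MulEquiv.piUnits.symm d)

theorem coe_dg (d : Fin n → Fˣ) : ((dg d : GL (Fin n) F) : Matrix (Fin n) (Fin n) F) = Matrix.diagonal fun i => (d i : F) :=
  rfl

theorem dg_mem (d : Fin n → Fˣ) : dg d ∈ upperTriangularGL n F := by
  intro i j hij
  rw [coe_dg, Matrix.diagonal_apply_ne]
  exact (ne_of_gt hij)

theorem dg_perm (d : Fin n → Fˣ) (σ : Equiv.Perm (Fin n)) :
    dg d * permGL F n σ = permGL F n σ * dg (fun i => d (σ i)) := by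
  apply Units.ext
  ext i j
  rw [Units.val_mul, Units.val_mul, permGL_mul_apply, coe_dg, coe_dg, Matrix.diagonal_mul, coe_permGL]
  rw [Matrix.diagonal_apply]
  have h1 : (Equiv.Perm.permMatrix F σ⁻¹) i j = if σ⁻¹ i = j then 1 else 0 := by
    rw [Equiv.Perm.permMatrix, PEquiv.toMatrix_apply]
    simp only [Equiv.toPEquiv_apply, Option.mem_def, Option.some.injEq]
  rw [h1]
  split_ifs with h
  · rw [mul_one]
    congr 2
    simp
  · rw [mul_zero]

theorem det_dg (d : Fin n → Fˣ) : (dg d : GL (Fin n) F).det = ∏ i, d i := by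
  apply Units.ext
  rw [GeneralLinearGroup.val_det_apply, coe_dg, Matrix.det_diagonal, Units.coe_prod]

/-- the stabiliser in `GL_n` of two cosets has elements of all determinants. -/
theorem exists_det (hn : 0 < n) (a b : Fin n → ℕ) (p : Co F a × Co F b) (c : Fˣ) :
    ∃ s : GL (Fin n) F, s.det = c ∧ s • p = p := by
  obtain ⟨p1, p2⟩ := p
  induction p1 using QuotientGroup.induction_on with | H x => ?_
  induction p2 using QuotientGroup.induction_on with | H y => ?_
  obtain ⟨u, hu, σ, v, hv, e⟩ := bruhat (x⁻¹ * y)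
  set d : Fin n → Fˣ := Function.update 1 ⟨0, hn⟩ c with hd
  have hdet : ∏ i, d i = c := by
    rw [hd, Finset.prod_update_of_mem (mem_univ _)]
    simp
  refine ⟨x * u * dg d * u⁻¹ * x⁻¹, ?_, ?_⟩
  · rw [map_mul, map_mul, map_mul, map_mul, map_inv, map_inv, det_dg, hdet]
    have : ∀ X U : Fˣ, X * U * c * U⁻¹ * X⁻¹ = c := by
      intro X U
      rw [show X * U * c * U⁻¹ * X⁻¹ = X * (U * c * U⁻¹) * X⁻¹ by group, mul_inv_cancel_comm, mul_inv_cancel_comm]
    exact this _ _
  · apply Prod.ext
    · change (QuotientGroup.mk (x * u * dg d * u⁻¹ * x⁻¹ * x) : GL (Fin n) F ⧸ parabolicGL n F a) =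
        QuotientGroup.mk x
      rw [QuotientGroup.eq]
      have h1 : (x * u * dg d * u⁻¹ * x⁻¹ * x)⁻¹ * x = u * (dg d)⁻¹ * u⁻¹ := by group
      rw [h1]
      exact mul_mem (mul_mem (upper_le a hu) (inv_mem (upper_le a (dg_mem d)))) (inv_mem (upper_le a hu))
    · change (QuotientGroup.mk (x * u * dg d * u⁻¹ * x⁻¹ * y) : GL (Fin n) F ⧸ parabolicGL n F b) =
        QuotientGroup.mk y
      rw [QuotientGroup.eq]
      have hy : y = x * (u * permGL F n σ * v) := by rw [← e]; group
      have h1 : (x * u * dg d * u⁻¹ * x⁻¹ * y)⁻¹ * y = v⁻¹ * (dg (fun i => d (σ i)))⁻¹ * v := by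
        rw [hy]
        have h2 : x * u * dg d * u⁻¹ * x⁻¹ * (x * (u * permGL F n σ * v)) = x * u * (dg d * permGL F n σ) * v := by
          group
        rw [h2, dg_perm]
        group
      rw [h1]
      exact mul_mem (mul_mem (inv_mem (upper_le b hv)) (inv_mem (upper_le b (dg_mem _)))) (upper_le b hv)

theorem nOrb_SL_eq (hn : 0 < n) (a b : Fin n → ℕ) :
    nOrb (SpecialLinearGroup (Fin n) F) (Co F a × Co F b) = nOrb (GL (Fin n) F) (Co F a × Co F b) := by
  apply nOrb_congr (Equiv.refl _)
  intro y y'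
  constructor
  · rintro ⟨g, hg⟩
    exact ⟨SpecialLinearGroup.toGL g, hg⟩
  · rintro ⟨g, hg⟩
    obtain ⟨s, hs1, hs2⟩ := exists_det hn a b y' (g.det)
    have hdet : ((g * s⁻¹ : GL (Fin n) F) : Matrix (Fin n) (Fin n) F).det = 1 := by
      have h1 : (g * s⁻¹).det = 1 := by
        rw [map_mul, map_inv, hs1, mul_inv_cancel]
      have h2 := congrArg Units.val h1
      rwa [GeneralLinearGroup.val_det_apply] at h2
    refine ⟨⟨((g * s⁻¹ : GL (Fin n) F) : Matrix (Fin n) (Fin n) F), hdet⟩, ?_⟩
    have h3 : (SpecialLinearGroup.toGL ⟨((g * s⁻¹ : GL (Fin n) F) : Matrix (Fin n) (Fin n) F), hdet⟩ :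
        GL (Fin n) F) = g * s⁻¹ := by
      apply Units.ext
      rfl
    change (SpecialLinearGroup.toGL ⟨((g * s⁻¹ : GL (Fin n) F) : Matrix (Fin n) (Fin n) F), hdet⟩ :
        GL (Fin n) F) • y' = y
    rw [h3, mul_smul]
    have h4 : s⁻¹ • y' = y' := by
      rw [inv_smul_eq_iff]
      exact hs2.symm
    rw [h4]
    exact hg

theorem nOrb_GL [Finite F] (a b : Fin n → ℕ) (ha : ∑ i, a i = n) (hb : ∑ i, b i = n) :
    nOrb (GL (Fin n) F) (Co F a × Co F b) = Nat.card (Marg a b) := by
  classical
  have : Fintype F := Fintype.ofFinite _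
  have : Fintype (GL (Fin n) F) := Fintype.ofFinite _
  have h1 := inner_flag (F := F) a b ha hb
  rw [DoubleCoset.inner_eq_card_orbits] at h1
  exact Nat.cast_injective h1

variable (F) in
/-- the flag character. -/
noncomputable def theta (a : Fin n → ℕ) : SpecialLinearGroup (Fin n) F → ℝ :=
  pc (SpecialLinearGroup (Fin n) F) (Co F a)

/-- **The inner product of two flag characters over `SL_n(q)`.** -/
theorem ip_theta [Finite F] [Fintype (SpecialLinearGroup (Fin n) F)] (hn : 0 < n) (a b : Fin n → ℕ)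
    (ha : ∑ i, a i = n) (hb : ∑ i, b i = n) :
    ip (theta F a) (theta F b) = (Nat.card (Marg a b) : ℝ) := by
  rw [theta, theta, ip_pc, nOrb_SL_eq hn, nOrb_GL a b ha hb]

end Cfsg.Agent.H87.SLInner
end

-- part: H87/FlagsGL
section
/-!
# Flags and cosets of parabolic subgroups

`coEquiv` : the cosets of the parabolic subgroup of a composition are the flags of the corresponding dimensions.
-/

set_option autoImplicit false
set_option linter.unusedSectionVars false

namespace Cfsg.Agent.H87.FlagsGL

open scoped MatrixGroups Pointwise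
open Finset MulAction Matrix Module Cfsg.Agent.H87.Orb Cfsg.Agent.H87.SLInner Cfsg.Agent.H87.Flags
open Cfsg.Agent.H139.BlockCount Cfsg.Agent.H139.FlagInner

variable {F : Type*} [Field F] {n : ℕ}

/-- column vectors (a synonym avoiding the instances of Mathlib). -/
def Vec (F : Type*) (n : ℕ) : Type _ := Fin n → F

instance : AddCommGroup (Vec F n) := inferInstanceAs (AddCommGroup (Fin n → F))

instance : Module F (Vec F n) := inferInstanceAs (Module F (Fin n → F))

instance [Finite F] : Finite (Vec F n) := inferInstanceAs (Finite (Fin n → F))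

noncomputable instance [Fintype F] : Fintype (Vec F n) := Fintype.ofFinite _

instance : FiniteDimensional F (Vec F n) := inferInstanceAs (FiniteDimensional F (Fin n → F))

/-- the coordinates. -/
def co : Vec F n ≃ₗ[F] (Fin n → F) := LinearEquiv.refl F _

theorem finrank_vec : finrank F (Vec F n) = n := by
  rw [(co (F := F) (n := n)).finrank_eq, finrank_fintype_fun_eq_card, Fintype.card_fin]

theorem co_injective : Function.Injective (co (F := F) (n := n)) := co.injective

/-- the natural action of `GL_n`. -/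
instance glAct : DistribMulAction (GL (Fin n) F) (Vec F n) where
  smul g v := co.symm ((g : Matrix (Fin n) (Fin n) F) *ᵥ co v)
  one_smul v := by
    change co.symm (((1 : GL (Fin n) F) : Matrix (Fin n) (Fin n) F) *ᵥ co v) = v
    rw [Units.val_one, Matrix.one_mulVec, LinearEquiv.symm_apply_apply]
  mul_smul g h v := by
    change co.symm (((g * h : GL (Fin n) F) : Matrix (Fin n) (Fin n) F) *ᵥ co v) =
      co.symm ((g : Matrix (Fin n) (Fin n) F) *ᵥ co (co.symm ((h : Matrix (Fin n) (Fin n) F) *ᵥ co v)))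
    rw [Units.val_mul, LinearEquiv.apply_symm_apply, Matrix.mulVec_mulVec]
  smul_zero g := by
    change co.symm ((g : Matrix (Fin n) (Fin n) F) *ᵥ co 0) = 0
    rw [map_zero, Matrix.mulVec_zero, map_zero]
  smul_add g v w := by
    change co.symm ((g : Matrix (Fin n) (Fin n) F) *ᵥ co (v + w)) =
      co.symm ((g : Matrix (Fin n) (Fin n) F) *ᵥ co v) + co.symm ((g : Matrix (Fin n) (Fin n) F) *ᵥ co w)
    rw [map_add, Matrix.mulVec_add, map_add]

theorem co_smul (g : GL (Fin n) F) (v : Vec F n) : co (g • v) = (g : Matrix (Fin n) (Fin n) F) *ᵥ co v :=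
  co.apply_symm_apply _

instance glComm : SMulCommClass (GL (Fin n) F) F (Vec F n) where
  smul_comm g c v := by
    apply co_injective
    rw [co_smul, map_smul, map_smul, co_smul, Matrix.mulVec_smul]

/-- the natural action of `SL_n`. -/
instance slAct : DistribMulAction (SpecialLinearGroup (Fin n) F) (Vec F n) :=
  DistribMulAction.compHom (Vec F n) (SpecialLinearGroup.toGL (n := Fin n) (R := F))

theorem sl_smul_eq (g : SpecialLinearGroup (Fin n) F) (v : Vec F n) :
    g • v = (SpecialLinearGroup.toGL g : GL (Fin n) F) • v := rfl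

theorem co_smul' (g : SpecialLinearGroup (Fin n) F) (v : Vec F n) :
    co (g • v) = (g : Matrix (Fin n) (Fin n) F) *ᵥ co v := by
  rw [sl_smul_eq, co_smul]
  rfl

instance slComm : SMulCommClass (SpecialLinearGroup (Fin n) F) F (Vec F n) where
  smul_comm g c v := by
    rw [sl_smul_eq, sl_smul_eq, smul_comm]

/-- the standard subspaces. -/
def E (F : Type*) [Field F] (n k : ℕ) : Submodule F (Vec F n) where
  carrier := {v | ∀ i : Fin n, k ≤ i.val → co v i = 0}
  add_mem' := by
    intro v w hv hw i hi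
    rw [map_add, Pi.add_apply, hv i hi, hw i hi, add_zero]
  zero_mem' := by
    intro i _
    rw [map_zero, Pi.zero_apply]
  smul_mem' := by
    intro c v hv i hi
    rw [map_smul, Pi.smul_apply, hv i hi, smul_zero]

theorem mem_E {k : ℕ} {v : Vec F n} : v ∈ E F n k ↔ ∀ i : Fin n, k ≤ i.val → co v i = 0 := Iff.rfl

theorem E_mono {k l : ℕ} (h : k ≤ l) : E F n k ≤ E F n l := fun _ hv i hi => hv i (h.trans hi)

theorem finrank_E [Finite F] {k : ℕ} (hk : k ≤ n) : finrank F (E F n k) = k := by
  classical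
  have : Fintype F := Fintype.ofFinite F
  have : Fintype (E F n k) := Fintype.ofFinite _
  have h1 := card_coord (F := F) (univ.filter fun i : Fin n => i.val < k)
  have h2 : Nat.card {v : Fin n → F // ∀ i, i ∉ (univ.filter fun i : Fin n => i.val < k) → v i = 0} =
      Nat.card (E F n k) := by
    refine Nat.card_congr (co.symm.toEquiv.subtypeEquiv ?_)
    intro v
    change _ ↔ co.symm v ∈ E F n k
    rw [mem_E]
    simp only [mem_filter, mem_univ, true_and, not_lt, LinearEquiv.apply_symm_apply]
  have h3 : (univ.filter fun i : Fin n => i.val < k).card = k := by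
    have : (univ.filter fun i : Fin n => i.val < k) = (univ : Finset (Fin k)).map (Fin.castLEEmb hk) := by
      ext i
      simp only [mem_filter, mem_univ, true_and, mem_map, Fin.castLEEmb_apply]
      constructor
      · intro h
        exact ⟨⟨i.val, h⟩, rfl⟩
      · rintro ⟨j, rfl⟩
        exact j.isLt
    rw [this, card_map, card_univ, Fintype.card_fin]
  rw [h2, h3, Nat.card_eq_fintype_card, card_eq_pow_finrank (K := F)] at h1
  exact Nat.pow_right_injective Fintype.one_lt_card h1

/-- a composition matches the dimensions of a flag. -/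
structure Matches (a : Fin n → ℕ) {k : ℕ} (d : Fin k → ℕ) : Prop where
  sum : ∑ i, a i = n
  mono : Monotone d
  le : ∀ i, d i ≤ n
  left : ∀ j ≤ n, psum a j = 0 ∨ psum a j = n ∨ ∃ i, d i = psum a j
  right : ∀ i, ∃ j ≤ n, psum a j = d i

/-- the standard flag. -/
def std [Finite F] {k : ℕ} (d : Fin k → ℕ) (hd : Monotone d) (hle : ∀ i, d i ≤ n) : Fl F (Vec F n) d :=
  ⟨fun i => E F n (d i), fun _ _ hij => E_mono (hd hij), fun i => finrank_E (hle i)⟩

theorem stabilizer_std [Finite F] {a : Fin n → ℕ} {k : ℕ} {d : Fin k → ℕ} (M : Matches a d) :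
    stabilizer (GL (Fin n) F) (std (F := F) d M.mono M.le) = parabolicGL n F a := by
  have hp : psum a n = n := by rw [psum_last, M.sum]
  have hE : ∀ j ≤ n, ∀ v : Vec F n, v ∈ E F n (psum a j) ↔ ∀ i, j ≤ compLabel a i → co v i = 0 := by
    intro j hj v
    rw [mem_E]
    have : ∀ i : Fin n, psum a j ≤ i.val ↔ j ≤ compLabel a i := by
      intro i
      have := compLabel_lt_iff a i hj hp
      omega
    simp only [this]
  ext g
  rw [mem_stabilizer_iff]
  constructor
  · intro h l m hlm
    have hj := compLabel_lt a M.sum l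
    set e : Vec F n := co.symm (Pi.single m 1) with he
    have hce : co e = Pi.single m 1 := co.apply_symm_apply _
    have hmem : e ∈ E F n (psum a (compLabel a l)) := by
      rw [hE _ hj.le]
      intro i hi
      rw [hce, Pi.single_eq_of_ne]
      rintro rfl
      omega
    have hgoal : g • e ∈ E F n (psum a (compLabel a l)) → (g : Matrix (Fin n) (Fin n) F) l m = 0 := by
      intro h1
      rw [hE _ hj.le] at h1
      have h2 := h1 l le_rfl
      rw [co_smul, hce, Matrix.mulVec_single_one] at h2
      exact h2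
    rcases M.left _ hj.le with h1 | h1 | ⟨i, h1⟩
    · exfalso
      rw [h1] at hmem
      have := hmem m (Nat.zero_le _)
      rw [hce, Pi.single_eq_same] at this
      exact one_ne_zero this
    · exfalso
      have h2 := (compLabel_lt_iff a l hj.le hp).2 (by rw [h1]; exact l.isLt)
      exact lt_irrefl _ h2
    · apply hgoal
      have h2 := congrArg (fun W => W.1 i) h
      change g • E F n (d i) = E F n (d i) at h2
      rw [h1] at h2
      rw [← h2]
      exact smul_mem_smul.2 hmem
  · intro h
    apply Subtype.ext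
    funext i
    change g • E F n (d i) = E F n (d i)
    apply Submodule.eq_of_le_of_finrank_eq
    · intro x hx
      rw [mem_smul_iff] at hx
      set v := g⁻¹ • x with hv0
      have hx' : x = g • v := by rw [hv0, smul_inv_smul]
      rw [hx']
      obtain ⟨j, hj, e⟩ := M.right i
      rw [← e] at hx ⊢
      rw [hE j hj] at hx ⊢
      rw [co_smul]
      exact stable (compLabel a) h hx
    · exact Flags.finrank_smul _ _

/-- an invertible matrix from a linear automorphism. -/
theorem exists_gl (g : Vec F n ≃ₗ[F] Vec F n) : ∃ g' : GL (Fin n) F, ∀ v : Vec F n, g' • v = g v := by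
  let f : (Fin n → F) ≃ₗ[F] (Fin n → F) := co.symm ≪≫ₗ g ≪≫ₗ co
  refine ⟨⟨LinearMap.toMatrix' (f : (Fin n → F) →ₗ[F] (Fin n → F)),
    LinearMap.toMatrix' (f.symm : (Fin n → F) →ₗ[F] (Fin n → F)), ?_, ?_⟩, ?_⟩
  · rw [← LinearMap.toMatrix'_comp, LinearEquiv.comp_coe, LinearEquiv.symm_trans_self,
      LinearEquiv.refl_toLinearMap, LinearMap.toMatrix'_id]
  · rw [← LinearMap.toMatrix'_comp, LinearEquiv.comp_coe, LinearEquiv.self_trans_symm,
      LinearEquiv.refl_toLinearMap, LinearMap.toMatrix'_id]
  · intro v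
    apply co_injective
    rw [co_smul]
    refine (LinearMap.toMatrix'_mulVec _ _).trans ?_
    change co (g (co.symm (co v))) = _
    rw [LinearEquiv.symm_apply_apply]

/-- `GL_n` is transitive on flags of given dimensions. -/
theorem fl_transitive {k : ℕ} {d : Fin k → ℕ} (W W' : Fl F (Vec F n) d) : ∃ g : GL (Fin n) F, g • W = W' := by
  obtain ⟨g, hg⟩ := chain W.1 W'.1 W.2.1 W'.2.1 (fun i => by rw [W.2.2, W'.2.2])
  obtain ⟨g', hg'⟩ := exists_gl g
  refine ⟨g', Subtype.ext (funext fun i => ?_)⟩
  rw [smul_val, ← hg i]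
  ext x
  rw [mem_smul_iff]
  constructor
  · intro h
    refine ⟨g'⁻¹ • x, h, ?_⟩
    have := hg' (g'⁻¹ • x)
    rw [smul_inv_smul] at this
    exact this.symm
  · rintro ⟨y, hy, rfl⟩
    have h1 : g'⁻¹ • g y = y := by rw [← hg', inv_smul_smul]
    have h2 : g'⁻¹ • g y ∈ W.1 i := by
      rw [h1]
      exact hy
    exact h2

/-- the map from cosets to flags. -/
noncomputable def coMap [Finite F] {a : Fin n → ℕ} {k : ℕ} {d : Fin k → ℕ} (M : Matches a d) :
    Co F a → Fl F (Vec F n) d :=
  Quotient.lift (fun g : GL (Fin n) F => g • std (F := F) d M.mono M.le) (by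
    intro g h hgh
    have h1 : g⁻¹ * h ∈ parabolicGL n F a := QuotientGroup.leftRel_apply.1 hgh
    rw [← stabilizer_std M, mem_stabilizer_iff, mul_smul, inv_smul_eq_iff] at h1
    exact h1.symm)

theorem coMap_mk [Finite F] {a : Fin n → ℕ} {k : ℕ} {d : Fin k → ℕ} (M : Matches a d) (g : GL (Fin n) F) :
    coMap M (QuotientGroup.mk g : GL (Fin n) F ⧸ parabolicGL n F a) = g • std (F := F) d M.mono M.le := rfl

theorem coMap_bijective [Finite F] {a : Fin n → ℕ} {k : ℕ} {d : Fin k → ℕ} (M : Matches a d) :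
    Function.Bijective (coMap (F := F) M) := by
  constructor
  · intro x y hxy
    induction x using QuotientGroup.induction_on with | H x => ?_
    induction y using QuotientGroup.induction_on with | H y => ?_
    rw [coMap_mk, coMap_mk] at hxy
    apply QuotientGroup.eq.2
    rw [← stabilizer_std M, mem_stabilizer_iff, mul_smul, inv_smul_eq_iff]
    exact hxy.symm
  · intro W
    obtain ⟨g, hg⟩ := fl_transitive (std (F := F) d M.mono M.le) W
    exact ⟨QuotientGroup.mk g, hg⟩

theorem coMap_smul [Finite F] {a : Fin n → ℕ} {k : ℕ} {d : Fin k → ℕ} (M : Matches a d) (g : GL (Fin n) F)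
    (x : Co F a) : coMap M (g • x) = g • coMap M x := by
  induction x using QuotientGroup.induction_on with | H x => ?_
  change coMap M (QuotientGroup.mk (g * x) : GL (Fin n) F ⧸ parabolicGL n F a) = _
  rw [coMap_mk, coMap_mk, mul_smul]

/-- the flag character is the permutation character on flags. -/
theorem theta_eq [Finite F] {a : Fin n → ℕ} {k : ℕ} {d : Fin k → ℕ} (M : Matches a d) :
    theta F a = pc (SpecialLinearGroup (Fin n) F) (Fl F (Vec F n) d) := by
  apply pc_congr (Equiv.ofBijective _ (coMap_bijective M))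
  intro g y
  exact coMap_smul M _ y

end Cfsg.Agent.H87.FlagsGL
end

private theorem dce_28f4a661ee28 : _root_.True := by
  try have : _root_.True := by simp only [_root_.Cfsg.Agent.H87.SLInner.theta.eq_1]
  exact _root_.True.intro
end

-- part: H87/HerB
section
prune_inst 0x2004542122000000040090c10000a4440001900000000020e405020801c201c00280000e900408008200805804806810440030405000002400820040050120846b70e61234bc04140001000804410000000000000000000000000000000004000000000
set_option linter.all false
open scoped Cfsg.Agent.FastGrp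

-- part: H87/HerA
section
/-!
# Elements of order a primitive prime divisor of `q^(n-1) - 1` : elements commuting with them
-/

set_option autoImplicit false
set_option linter.unusedSectionVars false

namespace Cfsg.Agent.H87.HerA

open Submodule Module
open scoped Pointwise

variable {F V : Type*} [Field F] [Fintype F] [AddCommGroup V] [Module F V] [Finite V]
variable {G : Type*} [Group G] [DistribMulAction G V] [SMulCommClass G F V]

/-- the fixed vectors. -/
def Fx (F : Type*) {V : Type*} [Field F] [AddCommGroup V] [Module F V] {G : Type*} [Group G] [DistribMulAction G V]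
    [SMulCommClass G F V] (g : G) : Submodule F V where
  carrier := {v | g • v = v}
  add_mem' := by
    intro a b ha hb
    change g • (a + b) = a + b
    rw [smul_add, ha, hb]
  zero_mem' := smul_zero g
  smul_mem' := by
    intro c v hv
    change g • c • v = c • v
    rw [smul_comm, hv]

theorem mem_Fx {g : G} {v : V} : v ∈ Fx F g ↔ g • v = v := Iff.rfl

/-- counting fixed vectors in an invariant subspace. -/
theorem count {l k : ℕ} [hl : Fact l.Prime] {g : G} (hg : ∀ v : V, g ^ l ^ k • v = v) {B : Submodule F V}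
    (hB : ∀ v ∈ B, g • v ∈ B) :
    Fintype.card F ^ finrank F B ≡ Fintype.card F ^ finrank F ↥(B ⊓ Fx F g) [MOD l] := by
  classical
  let f : Function.End B := fun v => ⟨g • v.1, hB v v.2⟩
  have hf : f ^ l ^ k = 1 := by
    have h1 : ∀ (m : ℕ) (v : B), ((f ^ m) v).1 = g ^ m • v.1 := by
      intro m
      induction m with
      | zero =>
        intro v
        rw [pow_zero, pow_zero, one_smul]
        rfl
      | succ m ih =>
        intro v
        rw [pow_succ', pow_succ', mul_smul, ← ih]
        rfl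
    funext v
    apply Subtype.ext
    rw [h1, hg]
    rfl
  have hfin : Fintype B := Fintype.ofFinite B
  have hfin2 : Fintype ↥(B ⊓ Fx F g) := Fintype.ofFinite _
  have h2 := Equiv.Perm.card_fixedPoints_modEq hf
  have h3 : Fintype.card B = Fintype.card F ^ finrank F B := card_eq_pow_finrank
  have h4 : Fintype.card ↥(B ⊓ Fx F g) = Fintype.card F ^ finrank F ↥(B ⊓ Fx F g) := card_eq_pow_finrank
  rw [← h3, ← h4]
  refine h2.trans ?_
  have h5 : Fintype.card ↥(Function.fixedPoints f) = Fintype.card ↥(B ⊓ Fx F g) := by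
    refine Fintype.card_congr ⟨fun v => ⟨v.1.1, v.1.2, congrArg Subtype.val v.2⟩,
      fun v => ⟨⟨v.1, v.2.1⟩, Subtype.ext v.2.2⟩, fun v => rfl, fun v => rfl⟩
  rw [← h5]

/-- `r` is a primitive prime divisor of `q^(n-1) - 1`. -/
structure Pr (F : Type*) [Field F] [Fintype F] (n r : ℕ) : Prop where
  prime : r.Prime
  dvd : ∀ i, r ∣ Fintype.card F ^ i - 1 → (n - 1) ∣ i
  dvd' : r ∣ Fintype.card F ^ (n - 1) - 1
  ndvd : ¬ r ∣ Fintype.card F

variable {n r : ℕ}

theorem dim_mod (P : Pr F n r) {g : G} (hg : g ^ r = 1) {B : Submodule F V} (hB : ∀ v ∈ B, g • v ∈ B) :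
    (n - 1) ∣ finrank F B - finrank F ↥(B ⊓ Fx F g) := by
  have hr : Fact r.Prime := ⟨P.prime⟩
  have h1 := count (F := F) (V := V) (l := r) (k := 1) (g := g) (by
    intro v
    rw [pow_one, hg, one_smul]) hB
  have h2 : finrank F ↥(B ⊓ Fx F g) ≤ finrank F B := finrank_mono inf_le_left
  have hq : 0 < Fintype.card F := Fintype.card_pos
  apply P.dvd
  have h3 : r ∣ Fintype.card F ^ finrank F B - Fintype.card F ^ finrank F ↥(B ⊓ Fx F g) :=
    (Nat.modEq_iff_dvd' (Nat.pow_le_pow_right hq h2)).1 h1.symm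
  have h4 : Fintype.card F ^ finrank F B - Fintype.card F ^ finrank F ↥(B ⊓ Fx F g) =
      Fintype.card F ^ finrank F ↥(B ⊓ Fx F g) *
        (Fintype.card F ^ (finrank F B - finrank F ↥(B ⊓ Fx F g)) - 1) := by
    rw [Nat.mul_sub, mul_one, ← pow_add, Nat.add_sub_cancel' h2]
  rw [h4] at h3
  exact (P.prime.dvd_mul.1 h3).resolve_left fun h => P.ndvd (P.prime.dvd_of_dvd_pow h)

theorem finrank_Fx (hn : 3 ≤ n) (hV : finrank F V = n) (P : Pr F n r) {g : G} (hg : g ^ r = 1)
    (hg1 : ∃ v : V, g • v ≠ v) : finrank F (Fx F g : Submodule F V) = 1 := by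
  have h1 := dim_mod (F := F) (V := V) P hg (B := ⊤) (fun _ _ => mem_top)
  rw [top_inf_eq, finrank_top, hV] at h1
  have h2 : finrank F (Fx F g : Submodule F V) < n := by
    rw [← hV]
    apply finrank_lt
    intro h
    obtain ⟨v, hv⟩ := hg1
    apply hv
    rw [← mem_Fx (F := F), h]
    exact mem_top
  obtain ⟨k, hk⟩ := h1
  have hk0 : k ≠ 0 := by
    rintro rfl
    omega
  have hk1 : k < 2 := by
    by_contra hcon
    have : (n - 1) * 2 ≤ (n - 1) * k := Nat.mul_le_mul_left _ (by omega)
    omega
  have : k = 1 := by omega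
  subst this
  omega

theorem pair (hn : 3 ≤ n) (hV : finrank F V = n) (P : Pr F n r) {g : G} (hg : g ^ r = 1)
    (hg1 : ∃ v : V, g • v ≠ v) {D E : Submodule F V} (hD : ∀ v ∈ D, g • v ∈ D) (hE : ∀ v ∈ E, g • v ∈ E)
    (hD1 : finrank F D = 1) (hE1 : finrank F E = n - 1) (h : D ⊓ E ≠ ⊥) : False := by
  have hW := finrank_Fx hn hV P hg hg1
  have h1 : finrank F ↥(D ⊓ E) ≠ 0 := fun h0 => h (Submodule.finrank_eq_zero.1 h0)
  have h2 : finrank F ↥(D ⊓ E) ≤ finrank F D := finrank_mono inf_le_left
  have h3 : D ⊓ E = D := eq_of_le_of_finrank_eq inf_le_left (by omega)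
  have hDE : D ≤ E := inf_eq_left.1 h3
  have h4 := dim_mod P hg hD
  have h5 := dim_mod P hg hE
  have h6 : finrank F ↥(D ⊓ Fx F g) ≤ finrank F D := finrank_mono inf_le_left
  have h7 : finrank F ↥(D ⊓ Fx F g) = 1 := by
    by_contra hcon
    have h8 : finrank F ↥(D ⊓ Fx F g) = 0 := by omega
    rw [h8, hD1] at h4
    have := Nat.le_of_dvd (by norm_num) h4
    omega
  have h8 : finrank F ↥(D ⊓ Fx F g) ≤ finrank F ↥(E ⊓ Fx F g) := finrank_mono (inf_le_inf_right _ hDE)
  have h9 : finrank F ↥(E ⊓ Fx F g) ≤ finrank F (Fx F g : Submodule F V) := finrank_mono inf_le_right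
  have h10 : finrank F ↥(E ⊓ Fx F g) = 1 := by omega
  rw [h10, hE1] at h5
  have := Nat.le_of_dvd (by omega) h5
  omega

/-- **Elements of order a power of the characteristic do not commute with `g`.** -/
theorem lemA (hn : 3 ≤ n) (hV : finrank F V = n) (P : Pr F n r) {g u : G} (hg : g ^ r = 1)
    (hg1 : ∃ v : V, g • v ≠ v) {p k : ℕ} (hp : p.Prime) (hF : p ∣ Fintype.card F) (hu : u ^ p ^ k = 1)
    (hc : g * u = u * g) (v : V) : u • v = v := by
  have hpf : Fact p.Prime := ⟨hp⟩
  by_contra hv
  let T : V →ₗ[F] V := (DistribMulAction.toLinearEquiv F V u : V →ₗ[F] V) - LinearMap.id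
  have hT : ∀ w, T w = u • w - w := fun w => rfl
  have hker : LinearMap.ker T = Fx F u := by
    ext w
    rw [LinearMap.mem_ker, hT, mem_Fx, sub_eq_zero]
  have hdim := LinearMap.finrank_range_add_finrank_ker T
  rw [hker, hV] at hdim
  have hcomm : ∀ w : V, u • g • w = g • u • w := by
    intro w
    rw [← mul_smul, ← mul_smul, hc]
  have hB1 : ∀ w ∈ (Fx F u : Submodule F V), g • w ∈ (Fx F u : Submodule F V) := by
    intro w hw
    rw [mem_Fx] at hw ⊢
    rw [hcomm, hw]
  have hB2 : ∀ w ∈ LinearMap.range T, g • w ∈ LinearMap.range T := by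
    rintro _ ⟨w, rfl⟩
    refine ⟨g • w, ?_⟩
    rw [hT, hT, smul_sub, hcomm]
  have hB2u : ∀ w ∈ LinearMap.range T, u • w ∈ LinearMap.range T := by
    rintro _ ⟨w, rfl⟩
    refine ⟨u • w, ?_⟩
    rw [hT, hT, smul_sub]
  have hu' : ∀ v : V, u ^ p ^ k • v = v := by
    intro v
    rw [hu, one_smul]
  have hq0 : ∀ m, m ≠ 0 → Fintype.card F ^ m ≡ 0 [MOD p] := by
    intro m hm
    rw [Nat.modEq_zero_iff_dvd]
    exact hF.trans (dvd_pow_self _ hm)
  have hne : ∀ m : ℕ, Fintype.card F ^ m ≡ 0 [MOD p] → m ≠ 0 := by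
    rintro m h rfl
    rw [pow_zero, Nat.modEq_zero_iff_dvd] at h
    exact hp.one_lt.ne' (Nat.dvd_one.1 h)
  have c1 := count (F := F) (V := V) hu' (B := ⊤) (fun _ _ => mem_top)
  rw [top_inf_eq, finrank_top, hV] at c1
  have b1 := hne _ (c1.symm.trans (hq0 n (by omega)))
  have b2 : finrank F ↥(LinearMap.range T) ≠ 0 := by
    intro h
    rw [h, zero_add] at hdim
    apply hv
    have : (Fx F u : Submodule F V) = ⊤ := eq_top_of_finrank_eq (by rw [hdim, hV])
    rw [← mem_Fx (F := F), this]
    exact mem_top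
  have c2 := count (F := F) (V := V) hu' hB2u
  have b3 := hne _ (c2.symm.trans (hq0 _ b2))
  have b3' : LinearMap.range T ⊓ Fx F u ≠ ⊥ := by
    intro h
    rw [h, finrank_bot] at b3
    exact b3 rfl
  have hW := finrank_Fx hn hV P hg hg1
  have d1 := dim_mod P hg hB1
  have d2 := dim_mod P hg hB2
  have e1 : finrank F ↥(Fx F u ⊓ Fx F g : Submodule F V) ≤ finrank F (Fx F g : Submodule F V) :=
    finrank_mono inf_le_right
  have e2 : finrank F ↥(LinearMap.range T ⊓ Fx F g : Submodule F V) ≤ finrank F (Fx F g : Submodule F V) :=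
    finrank_mono inf_le_right
  have aux : ∀ b x : ℕ, (n - 1) ∣ b - x → x ≤ 1 → b ≠ 0 → b < n → b = 1 ∨ b = n - 1 := by
    rintro b x ⟨k, hk⟩ hx hb hbn
    rcases Nat.eq_zero_or_pos k with rfl | hk0
    · left
      omega
    · right
      have : (n - 1) * 1 ≤ (n - 1) * k := Nat.mul_le_mul_left _ hk0
      omega
  have f1 := aux _ _ d1 (by omega) b1 (by omega)
  have f2 := aux _ _ d2 (by omega) b2 (by omega)
  rcases f1 with f1 | f1
  · exact pair hn hV P hg hg1 hB1 hB2 f1 (by omega) (by rwa [inf_comm])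
  · exact pair hn hV P hg hg1 hB2 hB1 (by omega) f1 b3'

/-- the same for elements of order 7 of `GL_6(2)`. -/
theorem lem7 (hq : Fintype.card F = 2) (hV : finrank F V = 6) (P : Pr F 6 r) {g t : G} (hg : g ^ r = 1)
    (hg1 : ∃ v : V, g • v ≠ v) (ht : t ^ 7 = 1) (hc : g * t = t * g) (v : V) : t • v = v := by
  have h7 : Fact (Nat.Prime 7) := ⟨by norm_num⟩
  have hW := finrank_Fx (by norm_num) hV P hg hg1
  have hcomm : ∀ w : V, t • g • w = g • t • w := by
    intro w
    rw [← mul_smul, ← mul_smul, hc]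
  have hcard : Nat.card (Fx F g : Submodule F V) = 2 := by
    have hfin : Fintype (Fx F g : Submodule F V) := Fintype.ofFinite _
    rw [Nat.card_eq_fintype_card]
    have : Fintype.card (Fx F g : Submodule F V) = Fintype.card F ^ finrank F (Fx F g : Submodule F V) :=
      card_eq_pow_finrank
    rw [this, hq, hW, pow_one]
  have hle : (Fx F g : Submodule F V) ≤ Fx F t := by
    intro w hw
    rw [mem_Fx]
    by_cases hw0 : w = 0
    · rw [hw0, smul_zero]
    · have htw : t • w ∈ (Fx F g : Submodule F V) := by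
        rw [mem_Fx] at hw ⊢
        rw [← hcomm, hw]
      have htw0 : t • w ≠ 0 := by rwa [Ne, smul_eq_zero_iff_eq]
      obtain ⟨x, y, hxy, huniv⟩ := Nat.card_eq_two_iff.1 hcard
      have hall : ∀ z : (Fx F g : Submodule F V), z = x ∨ z = y := by
        intro z
        have : z ∈ ({x, y} : Set (Fx F g : Submodule F V)) := by rw [huniv]; trivial
        simpa using this
      have a1 := hall ⟨w, hw⟩
      have a2 := hall ⟨t • w, htw⟩
      have a3 := hall 0
      have n1 : (⟨w, hw⟩ : (Fx F g : Submodule F V)) ≠ 0 := fun h => hw0 (congrArg Subtype.val h)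
      have n2 : (⟨t • w, htw⟩ : (Fx F g : Submodule F V)) ≠ 0 := fun h => htw0 (congrArg Subtype.val h)
      have key : (⟨t • w, htw⟩ : (Fx F g : Submodule F V)) = ⟨w, hw⟩ := by
        rcases a1 with a1 | a1 <;> rcases a2 with a2 | a2 <;> rcases a3 with a3 | a3
        · rw [a1, a2]
        · rw [a1, a2]
        · exact absurd (a1.trans a3.symm) n1
        · exact absurd (a2.trans a3.symm) n2
        · exact absurd (a2.trans a3.symm) n2
        · exact absurd (a1.trans a3.symm) n1
        · rw [a1, a2]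
        · rw [a1, a2]
      exact congrArg Subtype.val key
  have hB : ∀ w ∈ (Fx F t : Submodule F V), g • w ∈ (Fx F t : Submodule F V) := by
    intro w hw
    rw [mem_Fx] at hw ⊢
    rw [hcomm, hw]
  have d1 := dim_mod P hg hB
  rw [inf_eq_right.2 hle, hW] at d1
  have d2 : finrank F (Fx F g : Submodule F V) ≤ finrank F (Fx F t : Submodule F V) := finrank_mono hle
  have d3 : finrank F (Fx F t : Submodule F V) ≤ 6 := by
    rw [← hV]
    exact Submodule.finrank_le _
  have c1 := count (F := F) (V := V) (l := 7) (k := 1) (g := t) (by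
    intro v
    rw [pow_one, ht, one_smul]) (B := ⊤) (fun _ _ => mem_top)
  rw [top_inf_eq, finrank_top, hV, hq] at c1
  rw [hW] at d2
  have d4 : finrank F (Fx F t : Submodule F V) = 6 := by
    generalize finrank F (Fx F t : Submodule F V) = f at d1 d2 d3 c1
    interval_cases f
    · exact absurd c1 (by decide)
    · exact absurd d1 (by decide)
    · exact absurd d1 (by decide)
    · exact absurd d1 (by decide)
    · exact absurd d1 (by decide)
    · rfl
  have : (Fx F t : Submodule F V) = ⊤ := eq_top_of_finrank_eq (by rw [d4, hV])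
  rw [← mem_Fx (F := F), this]
  exact mem_top

end Cfsg.Agent.H87.HerA
end

-- part: H87/HerB
section
/-!
# Coprime action on Sylow subgroups and orders of classical groups
-/

set_option autoImplicit false
set_option linter.unusedSectionVars false

namespace Cfsg.Agent.H87.HerB

open Submodule Module
open scoped Pointwise

/-- an automorphism of prime order `r` of an `r'`-group normalises a Sylow subgroup. -/
theorem coprime {N : Type*} [Group N] [Finite N] (φ : MulAut N) {r : ℕ} (hr : r.Prime) (hφ : φ ^ r = 1)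
    (hrN : ¬ r ∣ Nat.card N) {l : ℕ} (hl : l.Prime) :
    ∃ P : Sylow l N, Nat.card P ≡ Nat.card {x : N // x ∈ P ∧ φ x = x} [MOD r] := by
  classical
  have hrf : Fact r.Prime := ⟨hr⟩
  have hlf : Fact l.Prime := ⟨hl⟩
  -- a fixed Sylow subgroup
  obtain ⟨P, hP⟩ : ∃ P : Sylow l N, φ • P = P := by
    let f : Function.End (Sylow l N) := fun P => φ • P
    have hf : f ^ r ^ 1 = 1 := by
      have h1 : ∀ (m : ℕ) (P : Sylow l N), (f ^ m) P = φ ^ m • P := by
        intro m
        induction m with
        | zero =>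
          intro P
          rw [pow_zero, pow_zero, one_smul]
          rfl
        | succ m ih =>
          intro P
          rw [pow_succ', pow_succ', mul_smul, ← ih]
          rfl
      funext P
      rw [h1, pow_one, hφ, one_smul]
      rfl
    have hfin : Fintype (Sylow l N) := Fintype.ofFinite _
    have h2 := Equiv.Perm.card_fixedPoints_modEq hf
    by_contra hcon
    push Not at hcon
    have h3 : Fintype.card ↥(Function.fixedPoints f) = 0 := by
      rw [Fintype.card_eq_zero_iff]
      exact ⟨fun P => hcon P.1 P.2⟩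
    rw [h3, Nat.modEq_zero_iff_dvd] at h2
    apply hrN
    have P : Sylow l N := default
    rw [← Nat.card_eq_fintype_card] at h2
    exact h2.trans (P.card_dvd_index.trans (Subgroup.index_dvd_card _))
  refine ⟨P, ?_⟩
  have hmem : ∀ x ∈ P, φ x ∈ P := by
    intro x hx
    rw [← hP]
    exact Subgroup.smul_mem_pointwise_smul x φ (P : Subgroup N) hx
  let f : Function.End P := fun x => ⟨φ x.1, hmem x.1 x.2⟩
  have hf : f ^ r ^ 1 = 1 := by
    have h1 : ∀ (m : ℕ) (x : P), ((f ^ m) x).1 = (φ ^ m) x.1 := by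
      intro m
      induction m with
      | zero =>
        intro x
        rw [pow_zero, pow_zero]
        rfl
      | succ m ih =>
        intro x
        rw [pow_succ', pow_succ', MulAut.mul_apply, ← ih]
        rfl
    funext x
    apply Subtype.ext
    rw [h1, pow_one, hφ]
    rfl
  have hfin : Fintype P := Fintype.ofFinite _
  have hfin2 : Fintype {x : N // x ∈ P ∧ φ x = x} := Fintype.ofFinite _
  have h2 := Equiv.Perm.card_fixedPoints_modEq hf
  rw [Nat.card_eq_fintype_card, Nat.card_eq_fintype_card]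
  refine h2.trans ?_
  have h5 : Fintype.card ↥(Function.fixedPoints f) = Fintype.card {x : N // x ∈ P ∧ φ x = x} := by
    refine Fintype.card_congr ⟨fun x => ⟨x.1.1, x.1.2, congrArg Subtype.val x.2⟩,
      fun x => ⟨⟨x.1, x.2.1⟩, Subtype.ext x.2.2⟩, fun x => rfl, fun x => rfl⟩
  rw [← h5]

theorem card_sylow {N : Type*} [Group N] [Finite N] {p : ℕ} [hp : Fact p.Prime] (P : Sylow p N) {c A k : ℕ}
    (h : c * Nat.card N = p ^ k * A) (hc : ¬ p ∣ c) (hA : ¬ p ∣ A) : Nat.card P = p ^ k := by
  rw [P.card_eq_multiplicity]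
  congr 1
  have hc0 : c ≠ 0 := fun h0 => hc (h0 ▸ dvd_zero p)
  have hA0 : A ≠ 0 := fun h0 => hA (h0 ▸ dvd_zero p)
  have h1 : (c * Nat.card N).factorization p = (p ^ k * A).factorization p := by rw [h]
  rw [Nat.factorization_mul hc0 Nat.card_pos.ne', Nat.factorization_mul (pow_ne_zero _ hp.out.ne_zero) hA0,
    Finsupp.add_apply, Finsupp.add_apply, Nat.factorization_eq_zero_of_not_dvd hc,
    Nat.factorization_eq_zero_of_not_dvd hA, hp.out.factorization_pow, Finsupp.single_eq_same] at h1
  omega

theorem not_dvd_pow_sub_one {p q j : ℕ} (hp : p.Prime) (hq : p ∣ q) (hj : j ≠ 0) (hq1 : 1 ≤ q) : ¬ p ∣ q ^ j - 1 := by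
  intro h
  have h1 : p ∣ q ^ j := hq.trans (dvd_pow_self q hj)
  have h2 : 1 ≤ q ^ j := Nat.one_le_pow _ _ hq1
  have h3 := (Nat.dvd_sub_iff_right h2 h1).1 h
  exact hp.one_lt.ne' (Nat.dvd_one.1 h3)

/-- the order of the special linear group, with the power of `q` separated. -/
theorem card_sl {F : Type*} [Field F] [Fintype F] (a : ℕ) (ha : 1 ≤ a) :
    (Fintype.card F - 1) * Nat.card (Matrix.SpecialLinearGroup (Fin a) F) =
      Fintype.card F ^ (a * (a - 1) / 2) * ∏ i ∈ Finset.range a, (Fintype.card F ^ (i + 1) - 1) := by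
  rw [S0242.result rfl a ha, Fin.prod_univ_eq_prod_range (fun i => Fintype.card F ^ a - Fintype.card F ^ i) a]
  have h1 : ∀ i ∈ Finset.range a, Fintype.card F ^ a - Fintype.card F ^ i =
      Fintype.card F ^ i * (Fintype.card F ^ (a - i) - 1) := by
    intro i hi
    rw [Finset.mem_range] at hi
    rw [Nat.mul_sub, mul_one, ← pow_add, Nat.add_sub_cancel' hi.le]
  rw [Finset.prod_congr rfl h1, Finset.prod_mul_distrib, Finset.prod_pow_eq_pow_sum, Finset.sum_range_id]
  congr 1
  rw [← Finset.prod_range_reflect]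
  apply Finset.prod_congr rfl
  intro i hi
  rw [Finset.mem_range] at hi
  congr 2
  omega

theorem not_dvd_prod {p q : ℕ} (hp : p.Prime) (hq : p ∣ q) (hq1 : 1 ≤ q) (s : Finset ℕ) (f : ℕ → ℕ) (hf : ∀ i ∈ s, f i ≠ 0) :
    ¬ p ∣ ∏ i ∈ s, (q ^ f i - 1) := by
  rw [hp.prime.dvd_finsetProd_iff]
  rintro ⟨i, hi, h⟩
  exact not_dvd_pow_sub_one hp hq (hf i hi) hq1 h

end Cfsg.Agent.H87.HerB
end
end
end
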